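import Mathlib
import Cfsg.Prelude.Def_Classical

/-!
# The twisted group algebra of `F₁₆³` for a sesquilinear `𝔽₂`-form, as monomial matrices of size 64
-/

set_option autoImplicit false

namespace Cfsg.Agent.KnownA.U34

open Matrix Finset

/-- Bit vectors. -/
abbrev B4 := Fin 4 → ZMod 2

/-- Multiplication by a root of `X⁴ + X + 1`. -/
def shift (b : B4) : B4 := ![b 3, b 0 + b 3, b 1, b 2]

/-- The first unit vector. -/
def e0 : B4 := ![1, 0, 0, 0]

theorem shift_orbit : ∀ b : B4, b = 0 ∨ ∃ m : Fin 15, shift^[m.val] e0 = b := by decide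

theorem unit_eq (i : Fin 4) : shift^[i.val] e0 = Pi.single i 1 := by revert i; decide

/-- Coordinates on a field with sixteen elements. -/
structure Coord (F : Type*) [Field F] where
  t : F
  bits : F ≃+ B4
  pow_eq : ∀ m : ℕ, t ^ m = bits.symm (shift^[m] e0)

variable {F : Type*} [Field F]

theorem add_pow_four [CharP F 2] (a b : F) : (a + b) ^ 4 = a ^ 4 + b ^ 4 := by
  have h2 : (2 : F) = 0 := CharTwo.two_eq_zero
  linear_combination (2 * a ^ 3 * b + 3 * a ^ 2 * b ^ 2 + 2 * a * b ^ 3) * h2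

theorem charP_two [Fintype F] (hF : Fintype.card F = 16) : CharP F 2 := by
  have h : (2 : F) = 0 := by
    have h16 : (16 : F) = 0 := by
      have := FiniteField.cast_card_eq_zero F
      rw [hF] at this
      simpa using this
    have : (2 : F) ^ 4 = 0 := by norm_num; exact h16
    exact pow_eq_zero_iff (by norm_num) |>.1 this
  exact CharTwo.of_one_ne_zero_of_two_eq_zero one_ne_zero h

theorem exists_root [Fintype F] (hF : Fintype.card F = 16) : ∃ t : F, t ^ 4 = t + 1 := by
  have := charP_two hF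
  have h2 : (2 : F) = 0 := CharTwo.two_eq_zero
  obtain ⟨g, hg⟩ := IsCyclic.exists_generator (α := Fˣ)
  have ho : orderOf g = 15 := by
    rw [orderOf_eq_card_of_forall_mem_zpowers hg, Nat.card_units, Nat.card_eq_fintype_card, hF]
  have hne : ∀ k, 0 < k → k < 15 → (g : F) ^ k ≠ 1 := by
    intro k hk hk' h
    have h1 : g ^ k = 1 := Units.ext (by simpa using h)
    have := Nat.le_of_dvd hk (ho ▸ orderOf_dvd_of_pow_eq_one h1)
    omega
  have h15 : (g : F) ^ 15 = 1 := by
    have := pow_orderOf_eq_one g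
    rw [ho] at this
    simpa using congrArg Units.val this
  set x : F := (g : F)
  have a1 : x + 1 ≠ 0 := fun h => hne 1 one_pos (by norm_num) (by linear_combination h - h2)
  have a2 : x ^ 2 + x + 1 ≠ 0 := fun h => hne 3 (by norm_num) (by norm_num) (by linear_combination (x - 1) * h)
  have a4 : x ^ 4 + x ^ 3 + x ^ 2 + x + 1 ≠ 0 := fun h =>
    hne 5 (by norm_num) (by norm_num) (by linear_combination (x - 1) * h)
  have hprod : (x + 1) * (x ^ 2 + x + 1) * (x ^ 4 + x ^ 3 + x ^ 2 + x + 1) *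
      ((x ^ 4 + x + 1) * (x ^ 4 + x ^ 3 + 1)) = 0 := by
    linear_combination h15 + (1 + 2 * x + 4 * x ^ 2 + 6 * x ^ 3 + 9 * x ^ 4 + 13 * x ^ 5 + 16 * x ^ 6 + 17 * x ^ 7 +
      17 * x ^ 8 + 16 * x ^ 9 + 13 * x ^ 10 + 9 * x ^ 11 + 6 * x ^ 12 + 4 * x ^ 13 + 2 * x ^ 14) * h2
  rcases mul_eq_zero.1 ((mul_eq_zero.1 hprod).resolve_left (mul_ne_zero (mul_ne_zero a1 a2) a4)) with h | h
  · exact ⟨x, by linear_combination h - (x + 1) * h2⟩
  · have hx : x ≠ 0 := g.ne_zero
    refine ⟨x⁻¹, ?_⟩
    field_simp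
    linear_combination h - (x ^ 4 + x ^ 3) * h2

/-- The linear map of bit vectors. -/
noncomputable def ofBits [CharP F 2] (t : F) : B4 →+ F where
  toFun b := ∑ i : Fin 4, ZMod.castHom (dvd_refl 2) F (b i) * t ^ i.val
  map_zero' := by simp [-ZMod.castHom_apply]
  map_add' a b := by simp [-ZMod.castHom_apply, add_mul, sum_add_distrib]

theorem exists_coord [Fintype F] (hF : Fintype.card F = 16) : Nonempty (Coord F) := by
  have := charP_two hF
  obtain ⟨t, ht⟩ := exists_root hF
  have h2 : (2 : F) = 0 := CharTwo.two_eq_zero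
  have hshift : ∀ b, ofBits t (shift b) = t * ofBits t b := by
    intro b
    simp [-ZMod.castHom_apply, ofBits, shift, Fin.sum_univ_four]
    linear_combination (-ZMod.castHom (dvd_refl 2) F (b 3)) * ht
  have hpow : ∀ m : ℕ, t ^ m = ofBits t (shift^[m] e0) := by
    intro m
    induction m with
    | zero => simp [-ZMod.castHom_apply, ofBits, e0, Fin.sum_univ_four]
    | succ m ih => rw [Function.iterate_succ_apply', hshift, pow_succ', ih]
  obtain ⟨g, hg⟩ := IsCyclic.exists_generator (α := Fˣ)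
  have ht0 : t ≠ 0 := by
    rintro rfl
    simp at ht
  have hinj : Function.Injective (ofBits t : B4 → F) := by
    rw [injective_iff_map_eq_zero]
    intro b hb
    rcases shift_orbit b with h | ⟨m, rfl⟩
    · exact h
    · rw [← hpow] at hb
      exact absurd hb (pow_ne_zero _ ht0)
  have hbij : Function.Bijective (ofBits t : B4 → F) :=
    (Fintype.bijective_iff_injective_and_card _).2 ⟨hinj, by simp [hF]⟩
  exact ⟨⟨t, (AddEquiv.ofBijective (ofBits t) hbij).symm, fun m => by rw [AddEquiv.symm_symm]; exact hpow m⟩⟩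

namespace Coord

variable (K : Coord F)

/-- The functional. -/
def θ (z : F) : ZMod 2 := K.bits z 3

theorem θ_add (a b : F) : K.θ (a + b) = K.θ a + K.θ b := by simp [θ]

theorem θ_zero : K.θ 0 = 0 := by simp [θ]

theorem two_eq_zero (K : Coord F) : (2 : F) = 0 := by
  apply K.bits.injective
  rw [map_zero, show (2 : F) = 1 + 1 by norm_num, map_add]
  funext i
  exact CharTwo.add_self_eq_zero _

theorem charP (K : Coord F) : CharP F 2 :=
  CharTwo.of_one_ne_zero_of_two_eq_zero one_ne_zero K.two_eq_zero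

end Coord

/-- The bit table of `(x, y) ↦ θ(t x y⁴)`. -/
def tbl (x y : B4) : ZMod 2 := ∑ i : Fin 4, ∑ j : Fin 4, x i * y j * (shift^[1 + i.val + 4 * j.val] e0) 3

theorem sesqui_bits (K : Coord F) (x y : F) : K.θ (K.t * (x * y ^ 4)) = tbl (K.bits x) (K.bits y) := by
  have := K.charP
  have hsm : ∀ (c : ZMod 2) (b : B4), K.bits.symm (c • b) = ZMod.castHom (dvd_refl 2) F c * K.bits.symm b := by
    intro c b
    have hc : c = 0 ∨ c = 1 := by revert c; decide
    rcases hc with rfl | rfl <;> simp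
  have hdec : ∀ x : F, x = ∑ i : Fin 4, ZMod.castHom (dvd_refl 2) F (K.bits x i) * K.t ^ i.val := by
    intro x
    simp only [K.pow_eq, ← hsm, ← map_sum, unit_eq]
    conv_lhs => rw [← K.bits.symm_apply_apply x]
    congr 1
    funext i
    simp [Finset.sum_apply, Pi.single_apply]
  have h4 : y ^ 4 = ∑ j : Fin 4, ZMod.castHom (dvd_refl 2) F (K.bits y j) * K.t ^ (4 * j.val) := by
    conv_lhs => rw [hdec y]
    simp only [Fin.sum_univ_four, add_pow_four, mul_pow, ← pow_mul]
    simp only [← map_pow, show ∀ c : ZMod 2, c ^ 4 = c from by decide, mul_comm 4]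
  have hx : K.t * (x * y ^ 4) = ∑ i : Fin 4, ∑ j : Fin 4,
      K.bits.symm ((K.bits x i * K.bits y j) • shift^[1 + i.val + 4 * j.val] e0) := by
    conv_lhs => rw [h4, hdec x]
    rw [Finset.sum_mul, Finset.mul_sum]
    refine sum_congr rfl fun i _ => ?_
    rw [Finset.mul_sum, Finset.mul_sum]
    refine sum_congr rfl fun j _ => ?_
    rw [hsm, map_mul, ← K.pow_eq, pow_add, pow_add, pow_one]
    ring
  simp only [Coord.θ, hx, map_sum, AddEquiv.apply_symm_apply, tbl, Finset.sum_apply, Pi.smul_apply, smul_eq_mul]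

/-- The shift part. -/
def A1 (x : B4) : ZMod 2 × ZMod 2 := (x 0 + x 1, x 1 + x 3)

/-- The phase part. -/
def L1 (x : B4) : ZMod 2 × ZMod 2 := (x 3, x 2)

/-- The inner product. -/
def d1 (a b : ZMod 2 × ZMod 2) : ZMod 2 := a.1 * b.1 + a.2 * b.2

/-- The inclusion of `ZMod 2` as the multiples of two. -/
def two : ZMod 2 →+ ZMod 4 where
  toFun a := if a = 0 then 0 else 2
  map_zero' := rfl
  map_add' := by decide

/-- The quadratic correction. -/
def c1 (x : B4) : ZMod 4 :=
  ((x 1).val : ZMod 4) + ((x 2).val : ZMod 4) + two (x 0 * x 2 + x 0 * x 3 + x 1 * x 3 + x 2 * x 3)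

theorem c1_rel : ∀ x y : B4, c1 x + c1 y + two (d1 (L1 x) (A1 y)) = two (tbl x y) + c1 (x + y) := by
  decide +kernel

theorem AL_injective : ∀ x : B4, A1 x = 0 → L1 x = 0 → x = 0 := by decide

theorem d1_nondeg : ∀ a : ZMod 2 × ZMod 2, a ≠ 0 → ∃ b, d1 a b = 1 := by decide

theorem A1_add : ∀ x y : B4, A1 (x + y) = A1 x + A1 y := by decide +kernel

theorem L1_add : ∀ x y : B4, L1 (x + y) = L1 x + L1 y := by decide +kernel

theorem d1_add_right : ∀ a b c : ZMod 2 × ZMod 2, d1 a (b + c) = d1 a b + d1 a c := by decide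

theorem d1_add_left : ∀ a b c : ZMod 2 × ZMod 2, d1 (a + b) c = d1 a c + d1 b c := by decide

/-- The fourth root of unity character. -/
noncomputable def ψ : AddChar (ZMod 4) ℂ := AddChar.zmodChar 4 Complex.I_pow_four

/-- The sign character. -/
noncomputable def sg (a : ZMod 2) : ℂ := ψ (two a)

theorem sg_add (a b : ZMod 2) : sg (a + b) = sg a * sg b := by rw [sg, map_add, AddChar.map_add_eq_mul]; rfl

theorem sg_zero : sg 0 = 1 := by rw [sg, map_zero, AddChar.map_zero_eq_one]

theorem sg_one : sg 1 = -1 := by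
  show Complex.I ^ 2 = -1
  exact Complex.I_sq

theorem sg_ne_zero (a : ZMod 2) : sg a ≠ 0 := (ψ.val_isUnit _).ne_zero

theorem sum_sg_eq_zero {α : Type*} [Fintype α] [AddGroup α] (f : α → ZMod 2) (hf : ∀ a b, f (a + b) = f a + f b)
    (h : ∃ a, f a = 1) : ∑ a, sg (f a) = 0 := by
  obtain ⟨a₀, ha⟩ := h
  have h1 : ∑ a, sg (f a) = -∑ a, sg (f a) := by
    conv_lhs => rw [← Equiv.sum_comp (Equiv.addLeft a₀)]
    rw [← Finset.sum_neg_distrib]
    refine sum_congr rfl fun a _ => ?_
    rw [Equiv.coe_addLeft, hf, sg_add, ha, sg_one, neg_one_mul]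
  linear_combination (1 / 2 : ℂ) * h1

/-- The index set. -/
abbrev Idx := Fin 3 → ZMod 2 × ZMod 2

/-- The vectors. -/
abbrev Vec (F : Type*) := Fin 3 → F

/-- Matrices of size 64. -/
abbrev M64 := Matrix Idx Idx ℂ

namespace Coord

variable (K : Coord F)

/-- The shift. -/
def A (x : Vec F) : Idx := fun k => A1 (K.bits (x k))

/-- The phase. -/
def dL (x : Vec F) (j : Idx) : ZMod 2 := ∑ k, d1 (L1 (K.bits (x k))) (j k)

/-- The correction. -/
def C (x : Vec F) : ZMod 4 := ∑ k, c1 (K.bits (x k))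

/-- The form. -/
def β (x y : Vec F) : ZMod 2 := K.θ (K.t * Cfsg.hermForm 3 F 4 x y)

theorem β_eq (x y : Vec F) : K.β x y = ∑ k, tbl (K.bits (x k)) (K.bits (y k)) := by
  simp only [β, Cfsg.hermForm, Fin.sum_univ_three, mul_add, θ_add, sesqui_bits]

theorem β_add_left (x x' y : Vec F) : K.β (x + x') y = K.β x y + K.β x' y := by
  simp only [β, Cfsg.hermForm, Pi.add_apply, add_mul, sum_add_distrib, mul_add, θ_add]

theorem β_add_right (x y y' : Vec F) : K.β x (y + y') = K.β x y + K.β x y' := by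
  have := K.charP
  simp only [β, Cfsg.hermForm, Pi.add_apply, add_pow_four, mul_add, sum_add_distrib, θ_add]

theorem β_zero_left (y : Vec F) : K.β 0 y = 0 := by simp [β, Cfsg.hermForm, K.θ_zero]

theorem β_zero_right (x : Vec F) : K.β x 0 = 0 := by simp [β, Cfsg.hermForm, K.θ_zero]

theorem A_add (x y : Vec F) : K.A (x + y) = K.A x + K.A y := by
  funext k; simp [A, A1_add]

theorem dL_add_left (x y : Vec F) (j : Idx) : K.dL (x + y) j = K.dL x j + K.dL y j := by
  simp [dL, L1_add, d1_add_left, sum_add_distrib]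

theorem dL_add_right (x : Vec F) (i j : Idx) : K.dL x (i + j) = K.dL x i + K.dL x j := by
  simp [dL, d1_add_right, sum_add_distrib]

theorem C_rel (x y : Vec F) : K.C x + K.C y + two (K.dL x (K.A y)) = two (K.β x y) + K.C (x + y) := by
  simp only [C, dL, A, β_eq, map_sum, ← sum_add_distrib, Pi.add_apply, map_add]
  exact sum_congr rfl fun k _ => c1_rel _ _

/-- The basis operators. -/
noncomputable def E (x : Vec F) : M64 :=
  Matrix.of fun i j => if i = j + K.A x then ψ (K.C x + two (K.dL x j)) else 0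

theorem E_mul (x y : Vec F) : K.E x * K.E y = sg (K.β x y) • K.E (x + y) := by
  ext i k
  rw [Matrix.mul_apply, Finset.sum_eq_single (k + K.A y)]
  · simp only [E, Matrix.of_apply, if_true, Matrix.smul_apply, smul_eq_mul, A_add, ite_mul, zero_mul, mul_ite,
      mul_zero, sg, ← AddChar.map_add_eq_mul]
    by_cases h : i = k + K.A y + K.A x
    · rw [if_pos h, if_pos (by rw [h]; abel)]
      congr 1
      rw [dL_add_right, dL_add_left, map_add, map_add]
      linear_combination K.C_rel x y
    · rw [if_neg h, if_neg (fun e => h (by rw [e]; abel))]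
  · intro j _ hj
    simp [E, hj]
  · simp

theorem E_zero : K.E 0 = 1 := by
  ext i j
  have hA : K.A 0 = 0 := by funext k; simp [A, A1]
  have hC : K.C 0 = 0 := by
    have : c1 0 = 0 := by decide
    simp [C, this]
  have hL : K.dL 0 j = 0 := by simp [dL, L1, d1]
  simp [E, hA, hC, hL, Matrix.one_apply]

theorem add_self_vec (K : Coord F) (x : Vec F) : x + x = 0 := by
  have := K.charP
  funext k; exact CharTwo.add_self_eq_zero _

theorem E_sq (x : Vec F) : K.E x * K.E x = sg (K.β x x) • (1 : M64) := by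
  rw [E_mul, K.add_self_vec, E_zero]

theorem trace_E {x : Vec F} (hx : x ≠ 0) : (K.E x).trace = 0 := by
  simp only [Matrix.trace, Matrix.diag, E, Matrix.of_apply, left_eq_add]
  by_cases hA : K.A x = 0
  · simp only [hA, if_true, AddChar.map_add_eq_mul, ← mul_sum]
    have hL : ∃ k, L1 (K.bits (x k)) ≠ 0 := by
      by_contra hc
      push Not at hc
      refine hx (funext fun k => ?_)
      apply K.bits.injective
      rw [Pi.zero_apply, map_zero]
      exact AL_injective _ (congrFun hA k) (hc k)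
    obtain ⟨k, hk⟩ := hL
    obtain ⟨b, hb⟩ := d1_nondeg _ hk
    refine mul_eq_zero.2 (Or.inr (sum_sg_eq_zero (fun j => K.dL x j) (K.dL_add_right x) ⟨Pi.single k b, ?_⟩))
    simp only [dL]
    rw [Finset.sum_eq_single k]
    · simpa using hb
    · intro l _ hl
      simp [hl, d1]
    · simp
  · simp [hA]

end Coord

end Cfsg.Agent.KnownA.U34
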