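import Cfsg.Agent.KnownA.U34.Intertwiner

/-!
# The operators of commuting fixed-point-free isometries multiply exactly
-/

set_option autoImplicit false
set_option linter.unusedSectionVars false

namespace Cfsg.Agent.KnownA.U34

open Matrix Finset

variable {F : Type*} [Field F] [Fintype F] [DecidableEq F]

/-- The sign as an integer. -/
def isg (a : ZMod 2) : ℤ := if a = 0 then 1 else -1

theorem isg_cast (a : ZMod 2) : ((isg a : ℤ) : ℂ) = sg a := by
  have ha : a = 0 ∨ a = 1 := by revert a; decide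
  rcases ha with rfl | rfl
  · simp [isg, sg_zero]
  · simp [isg, sg_one]

theorem scalar_mulVec (a : F) (x : Vec F) : ((a • 1 : Matrix (Fin 3) (Fin 3) F)) *ᵥ x = a • x := by
  rw [smul_mulVec, one_mulVec]

theorem iso_scalar {a : F} (ha : a ^ 5 = 1) : Iso (a • 1 : Matrix (Fin 3) (Fin 3) F) := by
  intro x y
  simp only [scalar_mulVec, Cfsg.hermForm, Pi.smul_apply, smul_eq_mul]
  refine sum_congr rfl fun i _ => ?_
  linear_combination (x i * y i ^ 4) * ha

theorem fpf_scalar {a : F} (ha : a ≠ 1) : Fpf (a • 1 : Matrix (Fin 3) (Fin 3) F) := by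
  intro x hx
  rw [scalar_mulVec] at hx
  by_contra h0
  exact ha (smul_left_injective F h0 (hx.trans (one_smul F x).symm))

namespace Coord

variable (K : Coord F)

theorem exists_zeta (K : Coord F) : ∃ a : F, a ^ 5 = 1 ∧ a ≠ 1 := by
  refine ⟨K.t ^ 3, ?_, ?_⟩
  · rw [← pow_mul, K.pow_eq, show shift^[3 * 5] e0 = shift^[0] e0 by decide, ← K.pow_eq, pow_zero]
  · rw [K.pow_eq, show (1 : F) = K.t ^ 0 from (pow_zero _).symm, K.pow_eq]
    exact fun h => absurd (K.bits.symm.injective h) (by decide)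

/-- The quadratic form of a pair. -/
def gQ (s t : Matrix (Fin 3) (Fin 3) F) (w : Vec F) : ZMod 2 :=
  K.β (w + s *ᵥ w + t *ᵥ w + (s * t) *ᵥ w) (w + (s * t) *ᵥ w)

/-- The Gauss sum of a pair. -/
def gS (s t : Matrix (Fin 3) (Fin 3) F) : ℤ := ∑ w, isg (K.gQ s t w)

variable {s t : Matrix (Fin 3) (Fin 3) F}

theorem vM_eq (hc : Commute s t) (w : Vec F) :
    (w + t *ᵥ w) + s *ᵥ (w + t *ᵥ w) = w + s *ᵥ w + t *ᵥ w + (s * t) *ᵥ w ∧
      (w + s *ᵥ w) + t *ᵥ (w + s *ᵥ w) = w + s *ᵥ w + t *ᵥ w + (s * t) *ᵥ w := by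
  refine ⟨?_, ?_⟩
  · rw [mulVec_add, mulVec_mulVec]; abel
  · rw [mulVec_add, mulVec_mulVec, hc.eq]; abel

theorem Z_injective (K : Coord F) (hc : Commute s t) (hsf : Fpf s) (htf : Fpf t) :
    Function.Injective fun w : Vec F => w + s *ᵥ w + t *ᵥ w + (s * t) *ᵥ w := by
  intro a b h
  refine K.vM_injective htf (K.vM_injective hsf ?_)
  simpa only [(vM_eq hc _).1] using h

theorem trace_R_mul (hc : Commute s t) (hsf : Fpf s) (htf : Fpf t) :
    (K.R s * K.R t).trace = (K.gS s t : ℂ) / 64 := by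
  have hb1 : Function.Bijective fun w : Vec F => w + t *ᵥ w :=
    Finite.injective_iff_bijective.1 (K.vM_injective htf)
  have hb2 : Function.Bijective fun w : Vec F => w + s *ᵥ w :=
    Finite.injective_iff_bijective.1 (K.vM_injective hsf)
  have e1 : K.R s = (-1 / 64 : ℂ) • ∑ w, sg (K.q s (w + t *ᵥ w)) •
      K.E (w + s *ᵥ w + t *ᵥ w + (s * t) *ᵥ w) := by
    rw [R, ← hb1.sum_comp]
    simp only [(vM_eq hc _).1]
  have e2 : K.R t = (-1 / 64 : ℂ) • ∑ w, sg (K.q t (w + s *ᵥ w)) •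
      K.E (w + s *ᵥ w + t *ᵥ w + (s * t) *ᵥ w) := by
    rw [R, ← hb2.sum_comp]
    simp only [(vM_eq hc _).2]
  simp only [e1, e2, Matrix.smul_mul, Matrix.mul_smul, smul_smul, Matrix.trace_smul, smul_eq_mul]
  simp only [Finset.sum_mul, Finset.mul_sum, Matrix.smul_mul, Matrix.mul_smul,
    Matrix.trace_sum, Matrix.trace_smul, smul_eq_mul, trace_E_mul, smul_smul]
  rw [gS, Int.cast_sum, Finset.sum_div]
  refine sum_congr rfl fun w _ => ?_
  rw [Finset.sum_eq_single w]
  · rw [if_pos rfl, isg_cast]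
    have : sg (K.gQ s t w) = sg (K.q s (w + t *ᵥ w)) * sg (K.q t (w + s *ᵥ w)) *
        sg (K.β (w + s *ᵥ w + t *ᵥ w + (s * t) *ᵥ w) (w + s *ᵥ w + t *ᵥ w + (s * t) *ᵥ w)) := by
      rw [← sg_add, ← sg_add]
      congr 1
      simp only [gQ, q, (vM_eq hc w).1, (vM_eq hc w).2]
      have h2 : (2 : ZMod 2) = 0 := by decide
      simp only [β_add_left, β_add_right]
      ring_nf
      have h3 : (3 : ZMod 2) = 1 := by decide
      simp only [h3, h2, mul_one, mul_zero, add_zero]
    rw [this]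
    ring
  · intro u _ hu
    rw [if_neg]
    · ring
    · intro h
      first
        | exact hu (K.Z_injective hc hsf htf h).symm
        | exact hu (K.Z_injective hc hsf htf h)
  · simp

theorem gS_sq (hc : Commute s t) (hs : Iso s) (ht : Iso t) (hsf : Fpf s) (htf : Fpf t) (hf : Fpf (s * t)) :
    K.gS s t * K.gS s t = 4096 := by
  have hZ : Function.Surjective fun w : Vec F => w + s *ᵥ w + t *ᵥ w + (s * t) *ᵥ w :=
    Finite.injective_iff_surjective.1 (K.Z_injective hc hsf htf)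
  set Z := fun w : Vec F => w + s *ᵥ w + t *ᵥ w + (s * t) *ᵥ w
  set Kf := fun w : Vec F => w + (s * t) *ᵥ w
  set B := fun a b : Vec F => K.β a b + K.β b a
  have h2 : (2 : ZMod 2) = 0 := by decide
  have hZadd : ∀ a b, Z (a + b) = Z a + Z b := fun a b => by simp only [Z, mulVec_add]; abel
  have hKadd : ∀ a b, Kf (a + b) = Kf a + Kf b := fun a b => by simp only [Kf, mulVec_add]; abel
  have hmir : ∀ u w, K.β (Z u) (Kf w) = K.β (Kf u) (Z w) := by
    intro u w
    have e1 : ∀ a b, K.β (s *ᵥ a) ((s * t) *ᵥ b) = K.β a (t *ᵥ b) := fun a b => by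
      rw [← mulVec_mulVec, K.β_iso hs]
    have e2 : ∀ a b, K.β (t *ᵥ a) ((s * t) *ᵥ b) = K.β a (s *ᵥ b) := fun a b => by
      rw [hc.eq, ← mulVec_mulVec, K.β_iso ht]
    have e3 : ∀ a b, K.β ((s * t) *ᵥ a) (s *ᵥ b) = K.β (t *ᵥ a) b := fun a b => by
      rw [← mulVec_mulVec, K.β_iso hs]
    have e4 : ∀ a b, K.β ((s * t) *ᵥ a) (t *ᵥ b) = K.β (s *ᵥ a) b := fun a b => by
      rw [hc.eq, ← mulVec_mulVec, K.β_iso ht]
    simp only [Z, Kf, β_add_left, β_add_right, e1, e2, e3, e4, K.β_iso (hs.mul ht)]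
    ring
  have hpol : ∀ w u, K.gQ s t (w + u) = K.gQ s t w + K.gQ s t u + B (Z w) (Kf u) := by
    intro w u
    show K.β (Z (w + u)) (Kf (w + u)) = K.β (Z w) (Kf w) + K.β (Z u) (Kf u) + (K.β (Z w) (Kf u) + K.β (Kf u) (Z w))
    rw [hZadd, hKadd, K.β_add_left, K.β_add_right (Z w) (Kf w) (Kf u), K.β_add_right (Z u) (Kf w) (Kf u),
      hmir u w]
    ring
  have hinner : ∀ u, u ≠ 0 → ∑ w, sg (B (Z w) (Kf u)) = 0 := by
    intro u hu
    refine sum_sg_eq_zero _ (fun a b => ?_) ?_
    · simp only [B, hZadd, K.β_add_left, K.β_add_right]; ring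
    · by_contra hcon
      push Not at hcon
      have hB : ∀ y, B y (Kf u) = 0 := by
        intro y
        obtain ⟨w, rfl⟩ := hZ y
        have : ∀ a : ZMod 2, a ≠ 1 → a = 0 := by decide
        exact this _ (hcon w)
      have hcomm : ∀ y, Commute (K.E (Kf u)) (K.E y) := by
        intro y
        show _ = _
        rw [E_mul, E_mul, add_comm y]
        congr 2
        have := hB y
        simp only [B] at this
        linear_combination this - (K.β y (Kf u)) * h2
      obtain ⟨c, hcE⟩ := K.eq_smul_one hcomm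
      have hK0 : Kf u ≠ 0 := fun e => hu (hf u (K.vec_add_eq_zero.1 e).symm)
      have htr := K.trace_E hK0
      rw [hcE, Matrix.trace_smul, Matrix.trace_one, card_idx] at htr
      have : c = 0 := by simpa using htr
      have hsq := K.E_sq (Kf u)
      rw [hcE, this, zero_smul, zero_mul] at hsq
      have := congrFun (congrFun hsq 0) 0
      exact sg_ne_zero (K.β (Kf u) (Kf u)) (by simpa using this.symm)
  have hC : ((K.gS s t : ℂ) * (K.gS s t : ℂ)) = 4096 := by
    simp only [gS, Int.cast_sum, isg_cast]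
    rw [Finset.sum_mul_sum]
    have : ∀ w : Vec F, ∑ v, sg (K.gQ s t w) * sg (K.gQ s t v) =
        ∑ u, sg (K.gQ s t u) * sg (B (Z w) (Kf u)) := by
      intro w
      rw [← Equiv.sum_comp (Equiv.addLeft w)]
      refine sum_congr rfl fun u _ => ?_
      rw [Equiv.coe_addLeft, ← sg_add, ← sg_add, hpol]
      congr 1
      linear_combination (K.gQ s t w) * h2
    simp only [this]
    rw [Finset.sum_comm, Finset.sum_eq_single 0]
    · simp [gQ, B, Kf, K.β_zero_left, K.β_zero_right, sg_zero, K.card_vec]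
    · intro u _ hu
      rw [← Finset.mul_sum, hinner u hu, mul_zero]
    · simp
  exact_mod_cast hC

theorem gS_mod (s t : Matrix (Fin 3) (Fin 3) F) : (5 : ℤ) ∣ K.gS s t - 4096 := by
  obtain ⟨a, ha, ha1⟩ := K.exists_zeta
  have ha0 : a ≠ 0 := by rintro rfl; simp at ha
  let S : Finset (Vec F) := univ.filter fun w => K.gQ s t w ≠ 0
  have hsum : K.gS s t = 4096 - 2 * (S.card : ℤ) := by
    have : ∀ w, isg (K.gQ s t w) = 1 - 2 * (if K.gQ s t w ≠ 0 then 1 else 0) := by
      intro w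
      by_cases h : K.gQ s t w = 0 <;> simp [isg, h]
    simp only [gS, this, sum_sub_distrib, ← Finset.mul_sum, S, Finset.card_filter]
    simp [K.card_vec]
  have hQ : ∀ w, K.gQ s t (a • w) = K.gQ s t w := by
    intro w
    have h := K.β_iso (iso_scalar ha)
    simp only [scalar_mulVec] at h
    simp only [gQ, mulVec_smul, ← smul_add, h]
  let σ : Equiv.Perm {w : Vec F // K.gQ s t w ≠ 0} :=
    (MulAction.toPerm (Units.mk0 a ha0) : Equiv.Perm (Vec F)).subtypePerm fun w => by simp [hQ]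
  haveI : Fact (Nat.Prime 5) := ⟨by norm_num⟩
  have hσ5 : σ ^ 5 ^ 1 = 1 := by
    have hn : ∀ (n : ℕ) (w : {w : Vec F // K.gQ s t w ≠ 0}), ((σ ^ n) w).1 = a ^ n • w.1 := by
      intro n
      induction n with
      | zero => intro w; simp
      | succ n ih =>
        intro w
        rw [pow_succ, Equiv.Perm.mul_apply, ih, pow_succ, mul_smul]
        rfl
    refine Equiv.ext fun w => Subtype.ext ?_
    rw [hn, pow_one, ha, one_smul]
    rfl
  have hfix : σ.supportᶜ = ∅ := by
    rw [Finset.eq_empty_iff_forall_notMem]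
    intro w hw
    rw [Finset.mem_compl, Equiv.Perm.notMem_support] at hw
    have h0 : a • w.1 = w.1 := congrArg Subtype.val hw
    have hw0 : w.1 = 0 := fpf_scalar ha1 _ (by rw [scalar_mulVec, h0])
    exact w.2 (by rw [hw0]; simp [gQ, K.β_zero_left])
  have h5 := Equiv.Perm.card_compl_support_modEq (n := 1) hσ5
  rw [hfix, Finset.card_empty, Fintype.card_subtype] at h5
  obtain ⟨k, hk⟩ := (Nat.modEq_zero_iff_dvd).1 h5.symm
  refine ⟨-2 * k, ?_⟩
  rw [hsum, show (S.card : ℤ) = 5 * k by exact_mod_cast hk]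
  ring

theorem gS_value (hc : Commute s t) (hs : Iso s) (ht : Iso t) (hsf : Fpf s) (htf : Fpf t) (hf : Fpf (s * t)) :
    K.gS s t = -64 := by
  have h1 := K.gS_sq hc hs ht hsf htf hf
  have h2 := K.gS_mod s t
  rcases mul_self_eq_mul_self_iff.1 (h1.trans (by norm_num : (4096 : ℤ) = 64 * 64)) with h | h
  · rw [h] at h2; norm_num at h2
  · exact h

theorem gS_one (h1 : s * t = 1) : K.gS s t = 4096 := by
  have : ∀ w, K.gQ s t w = 0 := fun w => by simp [gQ, h1, K.add_self_vec, K.β_zero_right]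
  simp [gS, this, isg, K.card_vec]

/-- The operator, extended by `1` at the identity. -/
noncomputable def Rx (M : Matrix (Fin 3) (Fin 3) F) : M64 := if M = 1 then 1 else K.R M

/-- The identity, or fixed-point-free. -/
def Good (M : Matrix (Fin 3) (Fin 3) F) : Prop := M = 1 ∨ Fpf M

theorem Rx_mul (hc : Commute s t) (hs : Iso s) (ht : Iso t) (hsg : Good s) (htg : Good t)
    (hg : Good (s * t)) : K.Rx (s * t) = K.Rx s * K.Rx t := by
  by_cases hs1 : s = 1
  · subst hs1; simp [Rx]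
  by_cases ht1 : t = 1
  · subst ht1; simp [Rx]
  have hsf := hsg.resolve_left hs1
  have htf := htg.resolve_left ht1
  have htr := K.trace_R_mul hc hsf htf
  have hint : K.Intw (s * t) (K.R s * K.R t) := (K.intw_R hs).mul K (K.intw_R ht)
  simp only [Rx, hs1, ht1, if_false]
  by_cases h1 : s * t = 1
  · rw [if_pos h1]
    rw [h1] at hint
    obtain ⟨c, hcc⟩ := Intw.unique K (K.intw_one) isUnit_one hint
    rw [hcc, Matrix.trace_smul, Matrix.trace_one, card_idx, K.gS_one h1, smul_eq_mul] at htr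
    have : c = 1 := by norm_num at htr; exact htr
    rw [hcc, this, one_smul]
  · rw [if_neg h1]
    have hff := hg.resolve_left h1
    obtain ⟨c, hcc⟩ := Intw.unique K (K.intw_R (hs.mul ht)) ((K.intw_R (hs.mul ht)).isUnit K (K.R_ne_zero hff)) hint
    rw [hcc, Matrix.trace_smul, K.trace_R hff, K.gS_value hc hs ht hsf htf hff, smul_eq_mul] at htr
    have : c = 1 := by norm_num at htr; exact htr
    rw [hcc, this, one_smul]

theorem intw_Rx {M : Matrix (Fin 3) (Fin 3) F} (hM : Iso M) : K.Intw M (K.Rx M) := by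
  unfold Rx
  split_ifs with h
  · subst h; exact K.intw_one
  · exact K.intw_R hM

theorem trace_Rx {M : Matrix (Fin 3) (Fin 3) F} (hM : Good M) :
    (K.Rx M).trace = if M = 1 then 64 else -1 := by
  unfold Rx
  split_ifs with h
  · simp
  · exact K.trace_R (hM.resolve_left h)

end Coord

end Cfsg.Agent.KnownA.U34
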