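import Mathlib

/-!
# Determinants on idempotents
-/

set_option autoImplicit false

namespace Cfsg.Agent.KnownA.U34

open Matrix Finset

variable {ι : Type*} [Fintype ι] [DecidableEq ι]

/-- A linear idempotent: determinant and trace. -/
theorem isProj_det_trace (P : Matrix ι ι ℂ) (hP : P * P = P) :
    ∃ r : ℕ, P.trace = r ∧ (r = 0 → P = 0) ∧ ∀ u : ℂ, (1 + u • P).det = (1 + u) ^ r := by
  set f := Matrix.toLin' P with hf
  set p := LinearMap.range f
  have hff : ∀ x, f (f x) = f x := fun x => by
    rw [hf, Matrix.toLin'_apply, Matrix.toLin'_apply, Matrix.mulVec_mulVec, hP]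
  have hproj : LinearMap.IsProj p f := ⟨fun x => LinearMap.mem_range_self f x, by
    rintro _ ⟨y, rfl⟩; exact hff y⟩
  refine ⟨Module.finrank ℂ p, ?_, fun h => ?_, fun u => ?_⟩
  · rw [← Matrix.trace_toLin'_eq, ← hf, hproj.trace]
  · have hp : p = ⊥ := Submodule.finrank_eq_zero.1 h
    have hf0 : f = 0 := LinearMap.range_eq_bot.1 hp
    exact Matrix.toLin'.injective (by rw [← hf, hf0, map_zero])
  · set e := Submodule.prodEquivOfIsCompl p (LinearMap.ker f) hproj.isCompl
    have key : Matrix.toLin' (1 + u • P) = e.toLinearMap ∘ₗ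
        (LinearMap.prodMap ((1 + u) • (LinearMap.id : p →ₗ[ℂ] p)) (LinearMap.id : LinearMap.ker f →ₗ[ℂ] LinearMap.ker f)) ∘ₗ
          e.symm.toLinearMap := by
      rw [map_add, map_smul, Matrix.toLin'_one]
      refine LinearMap.ext fun x => ?_
      obtain ⟨⟨a, b⟩, rfl⟩ := e.surjective x
      have hl : e.toLinearMap (a, b) = (a : ι → ℂ) + b := Submodule.coe_prodEquivOfIsCompl' _ _ hproj.isCompl (a, b)
      simp only [LinearMap.comp_apply, LinearEquiv.coe_coe, LinearEquiv.symm_apply_apply, LinearMap.prodMap_apply,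
        LinearMap.add_apply, LinearMap.smul_apply, LinearMap.id_apply, ← hf]
      simp only [e, Submodule.coe_prodEquivOfIsCompl', map_add, Submodule.coe_smul]
      rw [hproj.map_id a.1 a.2, LinearMap.mem_ker.1 b.2, add_zero, add_smul, one_smul]
      abel
    rw [← LinearMap.det_toLin', key, LinearMap.det_conj, LinearMap.det_prodMap, LinearMap.det_smul,
      LinearMap.det_id, LinearMap.det_id, mul_one, mul_one]

theorem eq_zero_of_trace_zero (P : Matrix ι ι ℂ) (hP : P * P = P) (h : P.trace = 0) : P = 0 := by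
  obtain ⟨r, hr, h0, -⟩ := isProj_det_trace P hP
  rw [hr] at h
  exact h0 (by exact_mod_cast h)

theorem det_one_add_smul (P : Matrix ι ι ℂ) (hP : P * P = P) {r : ℕ} (h : P.trace = r) (u : ℂ) :
    (1 + u • P).det = (1 + u) ^ r := by
  obtain ⟨r', hr', -, hd⟩ := isProj_det_trace P hP
  rw [h] at hr'
  rw [hd, show r = r' by exact_mod_cast hr']

/-- Determinant on the range of an idempotent. -/
noncomputable def detRes (e T : Matrix ι ι ℂ) : ℂ := (1 - e + e * T).det

theorem detRes_mul {e S T : Matrix ι ι ℂ} (he : e * e = e) (hS : Commute e S) :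
    detRes e (S * T) = detRes e S * detRes e T := by
  rw [detRes, detRes, detRes, ← Matrix.det_mul]
  congr 1
  have h1 : e * S * e = e * S := by rw [mul_assoc, ← hS.eq, ← mul_assoc, he]
  have h2 : e * S * (e * T) = e * (S * T) := by rw [← mul_assoc (e * S), h1, mul_assoc]
  have h3 : e * (e * T) = e * T := by rw [← mul_assoc, he]
  simp only [add_mul, mul_add, sub_mul, mul_sub, one_mul, mul_one, he, h1, h2, h3]
  abel

theorem detRes_one {e : Matrix ι ι ℂ} : detRes e 1 = 1 := by
  rw [detRes, mul_one, sub_add_cancel, Matrix.det_one]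

theorem detRes_smul {e T : Matrix ι ι ℂ} (he : e * e = e) {r : ℕ} (hr : e.trace = r) (c : ℂ) :
    detRes e (c • T) = c ^ r * detRes e T := by
  rw [show c • T = (c • (1 : Matrix ι ι ℂ)) * T by rw [Matrix.smul_mul, one_mul],
    detRes_mul he ((Commute.one_right e).smul_right c)]
  congr 1
  rw [detRes, Matrix.mul_smul, mul_one, show (1 - e + c • e) = 1 + (c - 1) • e by rw [sub_smul, one_smul]; abel,
    det_one_add_smul e he hr, add_sub_cancel]

/-- A representation of a cyclic group on the range of an idempotent with small trace has determinant one. -/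
theorem det_cyclic {p : ℕ} [NeZero p] (hodd : (∑ i : ZMod p, i) = 0) (e : Matrix ι ι ℂ) (X : ZMod p → Matrix ι ι ℂ)
    (χ : AddChar (ZMod p) ℂ) (hχ : ∀ i : ZMod p, i ≠ 0 → χ.mulShift i ≠ 1)
    (hX0 : X 0 = e) (hX : ∀ i j, X i * X j = X (i + j)) (τ : ℂ) (m m0 : ℕ) (htr : ∀ i, i ≠ 0 → (X i).trace = τ)
    (hm : e.trace = τ + (p : ℂ) * m) (hm0 : e.trace + ((p : ℂ) - 1) * τ = (p : ℂ) * m0) (hm1 : m = 1) :
    (1 - e + X 1).det = 1 ∧ (m0 = 0 → ∑ i, X i = 0) := by
  classical
  set P : ZMod p → Matrix ι ι ℂ := fun i => (1 / (p : ℂ)) • ∑ j, χ (i * j) • X j with hPdef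
  have hp : (p : ℂ) ≠ 0 := Nat.cast_ne_zero.2 (NeZero.ne p)
  have hsum : ∀ i : ZMod p, ∑ j, χ (i * j) = if i = 0 then (p : ℂ) else 0 := by
    intro i
    split_ifs with h
    · simp [h]
    · have := AddChar.sum_eq_zero_of_ne_one (hχ i h)
      simpa [AddChar.mulShift_apply] using this
  have hPP : ∀ i k, P i * P k = if i = k then P i else 0 := by
    intro i k
    simp only [hPdef, Matrix.smul_mul, Matrix.mul_smul, Finset.sum_mul, smul_smul]
    have : ∀ j : ZMod p, χ (i * j) • (X j * ∑ l, χ (k * l) • X l) =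
        ∑ l, (χ ((i - k) * j) * χ (k * l)) • X l := by
      intro j
      rw [Finset.mul_sum, Finset.smul_sum, ← Equiv.sum_comp (Equiv.addLeft j) (fun l => (χ ((i - k) * j) * χ (k * l)) • X l)]
      refine sum_congr rfl fun l _ => ?_
      rw [Equiv.coe_addLeft, Matrix.mul_smul, smul_smul, hX]
      congr 1
      rw [← AddChar.map_add_eq_mul, ← AddChar.map_add_eq_mul]
      congr 1
      ring
    rw [sum_congr rfl fun j _ => this j, Finset.sum_comm]
    simp only [← Finset.sum_smul, ← Finset.sum_mul, hsum, sub_eq_zero]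
    split_ifs with h
    · subst h
      rw [Finset.smul_sum, Finset.smul_sum]
      refine sum_congr rfl fun l _ => ?_
      rw [smul_smul, smul_smul]
      congr 1
      field_simp
    · simp
  have hPtr : ∀ i, (P i).trace = if i = 0 then (m0 : ℂ) else (m : ℂ) := by
    intro i
    simp only [hPdef, Matrix.trace_smul, Matrix.trace_sum, smul_eq_mul]
    rw [← Finset.add_sum_erase _ _ (Finset.mem_univ (0 : ZMod p)), mul_zero, AddChar.map_zero_eq_one, one_mul, hX0,
      sum_congr rfl fun j hj => by rw [htr j (Finset.ne_of_mem_erase hj)], ← Finset.sum_mul,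
      Finset.sum_erase_eq_sub (Finset.mem_univ _), hsum, mul_zero, AddChar.map_zero_eq_one]
    split_ifs with h
    · field_simp
      linear_combination hm0
    · field_simp
      linear_combination hm
  have hP1 : ∑ i, P i = e := by
    simp only [hPdef, ← Finset.smul_sum]
    rw [Finset.sum_comm]
    simp only [← Finset.sum_smul]
    rw [sum_congr rfl fun j _ => by rw [sum_congr rfl fun i _ => by rw [mul_comm i j], hsum j]]
    simp [ite_smul, hX0, smul_smul, hp]
  have hPX : ∑ i, χ (-i) • P i = X 1 := by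
    simp only [hPdef, Finset.smul_sum, smul_smul]
    rw [Finset.sum_comm]
    simp only [← Finset.sum_smul]
    have : ∀ j : ZMod p, ∑ i, χ (-i) * (1 / (p : ℂ) * χ (i * j)) = if j - 1 = 0 then 1 else 0 := by
      intro j
      calc ∑ i, χ (-i) * (1 / (p : ℂ) * χ (i * j)) = (1 / (p : ℂ)) * ∑ i, χ ((j - 1) * i) := by
            rw [Finset.mul_sum]
            refine sum_congr rfl fun i _ => ?_
            rw [show (j - 1) * i = -i + i * j by ring, AddChar.map_add_eq_mul]
            ring
        _ = _ := by rw [hsum]; split_ifs <;> simp [hp]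
    simp only [this, sub_eq_zero]
    simp [ite_smul]
  refine ⟨?_, fun h0 => ?_⟩
  · have hprod : ∀ s : Finset (ZMod p), (1 + ∑ i ∈ s, (χ (-i) - 1) • P i).det = χ (∑ i ∈ s, -i) := by
      intro s
      induction s using Finset.induction_on with
      | empty => simp
      | insert a s ha ih =>
        have hz : (∑ i ∈ s, (χ (-i) - 1) • P i) * P a = 0 := by
          rw [Finset.sum_mul]
          exact sum_eq_zero fun i hi => by
            rw [Matrix.smul_mul, hPP i a, if_neg (fun hia : i = a => ha (hia ▸ hi)), smul_zero]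
        have hsplit : (1 + ∑ i ∈ insert a s, (χ (-i) - 1) • P i) =
            (1 + ∑ i ∈ s, (χ (-i) - 1) • P i) * (1 + (χ (-a) - 1) • P a) := by
          rw [Finset.sum_insert ha, add_mul, one_mul, mul_add, mul_one, Matrix.mul_smul, hz, smul_zero, add_zero]
          abel
        rw [hsplit, Matrix.det_mul, ih, Finset.sum_insert ha, AddChar.map_add_eq_mul,
          det_one_add_smul (P a) (by rw [hPP, if_pos rfl]) (r := if a = 0 then m0 else m)
            (by rw [hPtr]; split_ifs <;> rfl), add_sub_cancel, mul_comm]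
        congr 1
        split_ifs with h
        · simp [h]
        · rw [hm1, pow_one]
    have := hprod univ
    rw [Finset.sum_neg_distrib, hodd, neg_zero, AddChar.map_zero_eq_one] at this
    simp only [sub_smul, one_smul, Finset.sum_sub_distrib, hP1, hPX] at this
    rw [← this]
    congr 1
    abel
  · have hz : P 0 = 0 := eq_zero_of_trace_zero _ (by rw [hPP, if_pos rfl]) (by rw [hPtr, if_pos rfl, h0, Nat.cast_zero])
    simp only [hPdef, zero_mul, AddChar.map_zero_eq_one, one_smul] at hz
    exact (smul_eq_zero.1 hz).resolve_left (by simp [hp])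

end Cfsg.Agent.KnownA.U34
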