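import Cfsg.Agent.KnownA.U34.Field

/-!
# Intertwiners of the Heisenberg operators for isometries of `F₁₆³`
-/

set_option autoImplicit false
set_option linter.unusedSectionVars false

namespace Cfsg.Agent.KnownA.U34

open Matrix Finset

variable {F : Type*} [Field F] [Fintype F] [DecidableEq F]

/-- An isometry. -/
def Iso (M : Matrix (Fin 3) (Fin 3) F) : Prop :=
  ∀ x y, Cfsg.hermForm 3 F 4 (M *ᵥ x) (M *ᵥ y) = Cfsg.hermForm 3 F 4 x y

/-- No non-zero fixed vector. -/
def Fpf (M : Matrix (Fin 3) (Fin 3) F) : Prop := ∀ x, M *ᵥ x = x → x = 0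

theorem Iso.mul {M N : Matrix (Fin 3) (Fin 3) F} (hM : Iso M) (hN : Iso N) : Iso (M * N) := fun x y => by
  rw [← mulVec_mulVec, ← mulVec_mulVec, hM, hN]

theorem Iso.one : Iso (1 : Matrix (Fin 3) (Fin 3) F) := fun x y => by simp

theorem sum_char_two {R : Type*} [CommRing R] [CharP R 2] (a : R) : a + a = 0 := CharTwo.add_self_eq_zero a

namespace Coord

variable (K : Coord F)

theorem β_iso {M : Matrix (Fin 3) (Fin 3) F} (hM : Iso M) (x y : Vec F) : K.β (M *ᵥ x) (M *ᵥ y) = K.β x y := by
  simp only [β, hM x y]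

theorem vec_add_eq_zero (K : Coord F) {x y : Vec F} : x + y = 0 ↔ x = y := by
  constructor
  · intro h
    calc x = x + (y + y) := by rw [K.add_self_vec, add_zero]
      _ = y := by rw [← add_assoc, h, zero_add]
  · rintro rfl; exact K.add_self_vec x

theorem card_vec (K : Coord F) : Fintype.card (Vec F) = 4096 := by
  rw [Fintype.card_fun, Fintype.card_congr K.bits.toEquiv]
  simp

theorem card_idx : Fintype.card Idx = 64 := by simp

theorem trace_E_mul (a b : Vec F) :
    (K.E a * K.E b).trace = if a = b then 64 * sg (K.β a a) else 0 := by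
  split_ifs with h
  · subst h
    rw [E_sq, Matrix.trace_smul, Matrix.trace_one, card_idx, smul_eq_mul, Nat.cast_ofNat, mul_comm]
  · rw [E_mul, Matrix.trace_smul, K.trace_E (fun e => h (K.vec_add_eq_zero.1 e)), smul_zero]

/-- The inverse of `E x`. -/
noncomputable def Ei (x : Vec F) : M64 := sg (K.β x x) • K.E x

theorem sg_mul_self (a : ZMod 2) : sg a * sg a = 1 := by
  rw [← sg_add, CharTwo.add_self_eq_zero, sg_zero]

theorem E_mul_Ei (x : Vec F) : K.E x * K.Ei x = 1 := by
  rw [Ei, Matrix.mul_smul, E_sq, smul_smul, sg_mul_self, one_smul]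

theorem E_indep : LinearIndependent ℂ K.E := by
  rw [Fintype.linearIndependent_iff]
  intro c hc b
  have := congrArg (fun X : M64 => (X * K.E b).trace) hc
  simp only [Finset.sum_mul, Matrix.smul_mul, Matrix.trace_sum, Matrix.trace_smul, trace_E_mul, smul_eq_mul, mul_ite,
    mul_zero, Finset.sum_ite_eq', Finset.mem_univ, if_true, Matrix.zero_mul, Matrix.trace_zero] at this
  simpa [sg_ne_zero] using this

theorem E_span : Submodule.span ℂ (Set.range K.E) = ⊤ :=
  K.E_indep.span_eq_top_of_card_eq_finrank (by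
    rw [K.card_vec, Module.finrank_matrix, Module.finrank_self, card_idx])

theorem commute_all {X : M64} (h : ∀ x, Commute X (K.E x)) (Y : M64) : Commute X Y := by
  have hY : Y ∈ Submodule.span ℂ (Set.range K.E) := by rw [E_span]; trivial
  induction hY using Submodule.span_induction with
  | mem y hy => obtain ⟨x, rfl⟩ := hy; exact h x
  | zero => exact Commute.zero_right X
  | add a b _ _ ha hb => exact ha.add_right hb
  | smul c a _ ha => exact ha.smul_right c

theorem eq_smul_one {X : M64} (h : ∀ x, Commute X (K.E x)) : ∃ c : ℂ, X = c • (1 : M64) := by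
  obtain ⟨c, hc⟩ := Matrix.mem_range_scalar_of_commute_single (M := X)
    (fun i j _ => (K.commute_all h _).symm)
  exact ⟨c, by rw [← hc, Matrix.smul_one_eq_diagonal]; rfl⟩

/-- `T` intertwines along `M`. -/
def Intw (M : Matrix (Fin 3) (Fin 3) F) (T : M64) : Prop := ∀ y, T * K.E y = K.E (M *ᵥ y) * T

theorem intw_one : K.Intw 1 1 := fun y => by rw [one_mul, mul_one, one_mulVec]

theorem Intw.mul {M N : Matrix (Fin 3) (Fin 3) F} {S T : M64} (hS : K.Intw M S) (hT : K.Intw N T) :
    K.Intw (M * N) (S * T) := fun y => by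
  rw [mul_assoc, hT, ← mul_assoc, hS, mul_assoc, mulVec_mulVec]

theorem Intw.isUnit {M : Matrix (Fin 3) (Fin 3) F} {T : M64} (hT : K.Intw M T) (h0 : T ≠ 0) : IsUnit T := by
  by_contra hu
  rw [Matrix.isUnit_iff_isUnit_det, isUnit_iff_ne_zero, not_not] at hu
  obtain ⟨x, hx, hTx⟩ := Matrix.exists_mulVec_eq_zero_iff.2 hu
  have hall : ∀ X : M64, T *ᵥ (X *ᵥ x) = 0 := by
    intro X
    have hX : X ∈ Submodule.span ℂ (Set.range K.E) := by rw [E_span]; trivial
    induction hX using Submodule.span_induction with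
    | mem y hy => obtain ⟨v, rfl⟩ := hy; rw [mulVec_mulVec, hT, ← mulVec_mulVec, hTx, mulVec_zero]
    | zero => simp
    | add a b _ _ ha hb => rw [add_mulVec, mulVec_add, ha, hb, add_zero]
    | smul c a _ ha => rw [smul_mulVec, mulVec_smul, ha, smul_zero]
  obtain ⟨i, hi⟩ := Function.ne_iff.1 hx
  refine h0 (Matrix.ext_iff_mulVec.2 fun v => ?_)
  have hv : (vecMulVec v (Pi.single i (x i)⁻¹)) *ᵥ x = v := by
    funext a
    simp [vecMulVec, mulVec, dotProduct, Pi.single_apply, Finset.sum_ite_eq']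
    field_simp [show x i ≠ 0 from hi]
  rw [← hv, hall, zero_mulVec]

theorem Intw.unique {M : Matrix (Fin 3) (Fin 3) F} {S T : M64} (hS : K.Intw M S) (hSu : IsUnit S)
    (hT : K.Intw M T) : ∃ c : ℂ, T = c • S := by
  obtain ⟨u, rfl⟩ := hSu
  obtain ⟨c, hc⟩ := K.eq_smul_one (X := (↑u⁻¹ : M64) * T) fun x => by
    show (↑u⁻¹ : M64) * T * K.E x = K.E x * (↑u⁻¹ * T)
    have h := hS x
    calc (↑u⁻¹ : M64) * T * K.E x = ↑u⁻¹ * (K.E (M *ᵥ x) * ↑u) * ↑u⁻¹ * T := by
          rw [mul_assoc, hT, mul_assoc (↑u⁻¹ : M64) (_ * _), mul_assoc (K.E _) (↑u : M64), Units.mul_inv,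
            mul_one, mul_assoc]
      _ = _ := by rw [← h, ← mul_assoc (↑u⁻¹ : M64), Units.inv_mul, one_mul, mul_assoc]
  exact ⟨c, by rw [show T = ↑u * ((↑u⁻¹ : M64) * T) by rw [← mul_assoc, Units.mul_inv, one_mul], hc,
    Matrix.mul_smul, mul_one]⟩

theorem exists_intw {M : Matrix (Fin 3) (Fin 3) F} (hM : Iso M) (hinj : Function.Injective (M *ᵥ ·)) :
    ∃ T : M64, IsUnit T ∧ K.Intw M T := by
  let T : M64 → M64 := fun X => ∑ v, K.E (M *ᵥ v) * X * K.Ei v
  have hT : ∀ X, K.Intw M (T X) := by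
    intro X y
    simp only [T, Finset.sum_mul, Finset.mul_sum]
    refine Fintype.sum_equiv (Equiv.addLeft y) _ _ fun v => ?_
    rw [Equiv.coe_addLeft]
    simp only [Ei, Matrix.mul_smul, Matrix.smul_mul, ← mul_assoc, E_mul, ← mulVec_add]
    simp only [mul_assoc, E_mul, Matrix.mul_smul, smul_smul]
    have hv : y + (y + v) = v := by rw [← add_assoc, K.add_self_vec, zero_add]
    rw [hv, show v + y = y + v from add_comm v y]
    congr 1
    simp only [← sg_add, β_add_left, β_add_right, K.β_iso hM]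
    congr 1
    have h2 : (2 : ZMod 2) = 0 := by decide
    linear_combination (-(K.β y v + K.β y y)) * h2
  by_contra hc
  push Not at hc
  have hzero : ∀ X, T X = 0 := fun X => by
    by_contra h
    exact hc _ ((hT X).isUnit K h) (hT X)
  have hEi : ∀ a b, K.Ei 0 a b = 0 := by
    intro a b
    have h := hzero
    have hlin : ∀ i j, ∑ v, K.Ei v a b • K.E (M *ᵥ v) i j = 0 := by
      intro i j
      have := congrFun (congrFun (h (Matrix.single j a 1)) i) b
      simp only [T, Matrix.sum_apply, Matrix.zero_apply] at this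
      rw [← this]
      refine sum_congr rfl fun v _ => ?_
      rw [Matrix.mul_apply, Finset.sum_eq_single a]
      · simp [Matrix.mul_apply, Matrix.single_apply, mul_comm]
      · intro c _ hca; simp [Matrix.mul_apply, Matrix.single_apply, Ne.symm hca]
      · simp
    have hsum : ∑ v, K.Ei v a b • K.E (M *ᵥ v) = 0 := by
      ext i j
      simpa [Matrix.sum_apply] using hlin i j
    exact (Fintype.linearIndependent_iff.1 (K.E_indep.comp _ hinj)) _ hsum 0
  have := congrFun (congrFun (K.E_mul_Ei (0 : Vec F)) 0) 0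
  simp [Matrix.mul_apply, hEi] at this

/-- The quadratic exponent. -/
def q (M : Matrix (Fin 3) (Fin 3) F) (x : Vec F) : ZMod 2 := K.β (x + M *ᵥ x) x

/-- The operator of a fixed-point-free isometry. -/
noncomputable def R (M : Matrix (Fin 3) (Fin 3) F) : M64 :=
  (-1 / 64 : ℂ) • ∑ x, sg (K.q M x) • K.E (x + M *ᵥ x)

theorem intw_R {M : Matrix (Fin 3) (Fin 3) F} (hM : Iso M) : K.Intw M (K.R M) := by
  intro y
  simp only [R, Matrix.smul_mul, Matrix.mul_smul]
  congr 1
  simp only [Finset.sum_mul, Finset.mul_sum, Matrix.smul_mul, Matrix.mul_smul, E_mul, smul_smul]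
  refine Fintype.sum_equiv (Equiv.addRight y) _ _ fun x => ?_
  rw [Equiv.coe_addRight, mulVec_add]
  have hv : M *ᵥ y + (x + y + (M *ᵥ x + M *ᵥ y)) = x + M *ᵥ x + y := by
    calc _ = x + M *ᵥ x + y + (M *ᵥ y + M *ᵥ y) := by abel
      _ = _ := by rw [K.add_self_vec, add_zero]
  rw [hv]
  congr 1
  simp only [← sg_add]
  congr 1
  simp only [q, mulVec_add, β_add_left, β_add_right, K.β_iso hM]
  have h2 : (2 : ZMod 2) = 0 := by decide
  linear_combination (-(K.β (M *ᵥ y) x + K.β y x + K.β (M *ᵥ y) y + K.β y y)) * h2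

theorem vM_injective (K : Coord F) {M : Matrix (Fin 3) (Fin 3) F} (hf : Fpf M) :
    Function.Injective fun x : Vec F => x + M *ᵥ x := by
  intro a b h
  apply K.vec_add_eq_zero.1
  refine hf _ (K.vec_add_eq_zero.1 ?_).symm
  calc a + b + M *ᵥ (a + b) = (a + M *ᵥ a) + (b + M *ᵥ b) := by rw [mulVec_add]; abel
    _ = 0 := by rw [show a + M *ᵥ a = b + M *ᵥ b from h, K.add_self_vec]

theorem trace_R {M : Matrix (Fin 3) (Fin 3) F} (hf : Fpf M) : (K.R M).trace = -1 := by
  rw [R, Matrix.trace_smul, Matrix.trace_sum, Finset.sum_eq_single 0]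
  · simp [q, K.β_zero_left, sg_zero, E_zero, Matrix.trace_smul]
  · intro x _ hx
    rw [Matrix.trace_smul, K.trace_E, smul_zero]
    intro h
    exact hx (K.vM_injective hf (by simpa using h))
  · simp

theorem R_ne_zero {M : Matrix (Fin 3) (Fin 3) F} (hf : Fpf M) : K.R M ≠ 0 := fun h => by
  have := K.trace_R hf
  rw [h, Matrix.trace_zero] at this
  norm_num at this

end Coord

end Cfsg.Agent.KnownA.U34
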