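import Cfsg.Agent.KnownA.U34.Weil

/-!
# A module in characteristic five on which elements of order thirteen act without fixed vectors
-/

set_option autoImplicit false
set_option linter.unusedSectionVars false

namespace Cfsg.Agent.KnownA.U34

open Matrix Finset

variable {F : Type*} [Field F] [Fintype F] [DecidableEq F]

/-- Reduction modulo five of a lattice of a multiplicative family of matrices. -/
theorem exists_lattice_mod {G : Type*} [Group G] [Finite G] {ι : Type} [Fintype ι] [DecidableEq ι]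
    (ρ : G → Matrix ι ι ℂ) (hmul : ∀ g h, ρ (g * h) = ρ g * ρ h) (h0 : ρ 1 ≠ 0) :
    ∃ (r : ℕ) (φ : G →* Matrix (Fin r) (Fin r) (ZMod 5)), 0 < r ∧
      ∀ (g : G) (n : ℕ), ∑ i ∈ range n, ρ (g ^ i) = 0 → ∑ i ∈ range n, φ (g ^ i) = 0 := by
  obtain ⟨j, hj⟩ : ∃ j, (fun i => ρ 1 i j) ≠ 0 := by
    by_contra hc
    push Not at hc
    exact h0 (Matrix.ext fun i j => congrFun (hc j) i)
  set w : ι → ℂ := fun i => ρ 1 i j with hwdef
  have hidem : ρ 1 * ρ 1 = ρ 1 := by rw [← hmul, one_mul]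
  have hw : ρ 1 *ᵥ w = w := funext fun i => by
    have := congrFun (congrFun hidem i) j
    simpa [hwdef, Matrix.mulVec, dotProduct, Matrix.mul_apply] using this
  set Λ : Submodule ℤ (ι → ℂ) := Submodule.span ℤ (Set.range fun g => ρ g *ᵥ w) with hΛ
  haveI : Module.Finite ℤ Λ := Module.Finite.iff_fg.2 (Submodule.fg_span (Set.finite_range _))
  haveI : Module.Free ℤ Λ := Module.free_of_finite_type_torsion_free'
  have hL : ∀ g, ∀ x ∈ Λ, ρ g *ᵥ x ∈ Λ := by
    intro g x hx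
    induction hx using Submodule.span_induction with
    | mem y hy =>
      obtain ⟨h, rfl⟩ := hy
      exact Submodule.subset_span ⟨g * h, by rw [Matrix.mulVec_mulVec, ← hmul]⟩
    | zero => rw [Matrix.mulVec_zero]; exact Λ.zero_mem
    | add u v _ _ hu hv => rw [Matrix.mulVec_add]; exact Λ.add_mem hu hv
    | smul c u _ hu => rw [Matrix.mulVec_smul]; exact Λ.smul_mem c hu
  have hone : ∀ x ∈ Λ, ρ 1 *ᵥ x = x := by
    intro x hx
    induction hx using Submodule.span_induction with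
    | mem y hy => obtain ⟨h, rfl⟩ := hy; rw [Matrix.mulVec_mulVec, ← hmul, one_mul]
    | zero => exact Matrix.mulVec_zero _
    | add u v _ _ hu hv => rw [Matrix.mulVec_add, hu, hv]
    | smul c u _ hu => rw [Matrix.mulVec_smul, hu]
  let L : G → Module.End ℤ Λ := fun g => LinearMap.restrict ((Matrix.mulVecLin (ρ g)).restrictScalars ℤ) (hL g)
  have hLv : ∀ g (x : Λ), ((L g x : Λ) : ι → ℂ) = ρ g *ᵥ (x : ι → ℂ) := fun g x => rfl
  let ψ : G →* Module.End ℤ Λ :=
    { toFun := L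
      map_one' := LinearMap.ext fun x => Subtype.ext (by rw [hLv]; exact hone x x.2)
      map_mul' := fun g h => LinearMap.ext fun x => Subtype.ext (by
        rw [Module.End.mul_apply, hLv, hLv, hLv, Matrix.mulVec_mulVec, hmul]) }
  let b := Module.finBasis ℤ Λ
  refine ⟨Module.finrank ℤ Λ, ((Int.castRingHom (ZMod 5)).mapMatrix).toMonoidHom.comp
    ((LinearMap.toMatrixAlgEquiv b).toMulEquiv.toMonoidHom.comp ψ), ?_, fun g n hg => ?_⟩
  · rw [Module.finrank_pos_iff (R := ℤ)]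
    refine ⟨⟨⟨w, Submodule.subset_span ⟨1, hw⟩⟩, 0, fun h => hj ?_⟩⟩
    exact congrArg Subtype.val h
  · have hs : ∑ i ∈ range n, ψ (g ^ i) = 0 := by
      refine LinearMap.ext fun x => Subtype.ext ?_
      rw [LinearMap.sum_apply, AddSubmonoidClass.coe_finset_sum, LinearMap.zero_apply]
      refine (Finset.sum_congr rfl fun i _ => hLv (g ^ i) x).trans ?_
      rw [← Matrix.sum_mulVec, hg, Matrix.zero_mulVec]
      rfl
    show ∑ i ∈ range n, (Int.castRingHom (ZMod 5)).mapMatrix (LinearMap.toMatrixAlgEquiv b (ψ (g ^ i))) = 0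
    rw [← map_sum, ← map_sum, hs, map_zero, map_zero]

theorem exists_mod_five (hF : Fintype.card F = 16) :
    ∃ (r : ℕ) (φ : Cfsg.SU 3 F 4 →* Matrix (Fin r) (Fin r) (ZMod 5)), 0 < r ∧
      ∀ g : Cfsg.SU 3 F 4, orderOf g = 13 → ∑ i ∈ range 13, φ (g ^ i) = 0 := by
  obtain ⟨K⟩ := exists_coord hF
  obtain ⟨a, ha, ha1⟩ := K.exists_zeta
  obtain ⟨r, φ, hr, hφ⟩ := exists_lattice_mod (K.ρ a) (K.ρ_mul ha ha1)
    (by rw [K.ρ_one ha ha1]; exact K.ep_ne_zero ha ha1)
  exact ⟨r, φ, hr, fun g hg => hφ g 13 (K.ρ_sum_thirteen ha ha1 hg)⟩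

theorem shift_four : shift^[4] e0 = shift^[1] e0 + shift^[0] e0 := by decide

/-- Elements of order ten and fifteen. -/
theorem exists_ten_fifteen (hF : Fintype.card F = 16) :
    (∃ g : Cfsg.SU 3 F 4, orderOf g = 10) ∧ ∃ g : Cfsg.SU 3 F 4, orderOf g = 15 := by
  obtain ⟨K⟩ := exists_coord hF
  haveI := K.charP
  have h2 : (2 : F) = 0 := K.two_eq_zero
  obtain ⟨a, ha, ha1⟩ := K.exists_zeta
  have mk : ∀ M : Matrix (Fin 3) (Fin 3) F, M.det = 1 → Iso M → ∃ g : Cfsg.SU 3 F 4, matG g = M := fun M hd hi =>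
    ⟨⟨⟨M, hd⟩, hi⟩, rfl⟩
  haveI : Fact (Nat.Prime 5) := ⟨by norm_num⟩
  haveI : Fact (Nat.Prime 3) := ⟨by norm_num⟩
  haveI : Fact (Nat.Prime 2) := ⟨by norm_num⟩
  have ho : ∀ (M : Matrix (Fin 3) (Fin 3) F) (g : Cfsg.SU 3 F 4) (p : ℕ) [Fact p.Prime], matG g = M → M ^ p = 1 → M ≠ 1 →
      orderOf g = p := fun M g p _ hg hp hne =>
    orderOf_eq_prime (matG_injective (by rw [map_pow, hg, hp, map_one])) fun h => hne (by rw [← hg, h, map_one])
  set D : Matrix (Fin 3) (Fin 3) F := !![a, 0, 0; 0, a, 0; 0, 0, a ^ 3] with hD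
  have hDd : D.det = 1 := by rw [hD, Matrix.det_fin_three]; simp; linear_combination ha
  have hDi : Iso D := by
    intro x y
    simp [hD, Cfsg.hermForm, Matrix.mulVec, dotProduct, Fin.sum_univ_three]
    linear_combination (x 0 * y 0 ^ 4 + x 1 * y 1 ^ 4 + x 2 * y 2 ^ 4 * (a ^ 10 + a ^ 5 + 1)) * ha
  obtain ⟨gD, hgD⟩ := mk D hDd hDi
  have hD5 : orderOf gD = 5 := by
    refine ho D gD 5 hgD ?_ fun h => ha1 ?_
    · have : D = Matrix.diagonal ![a, a, a ^ 3] := by
        rw [hD]; ext i j; fin_cases i <;> fin_cases j <;> simp [Matrix.diagonal]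
      rw [this, Matrix.diagonal_pow, ← Matrix.diagonal_one]
      congr 1
      funext i
      fin_cases i <;> simp [← pow_mul, ha]
      rw [show (15 : ℕ) = 5 * 3 by norm_num, pow_mul, ha, one_pow]
    · have := congrFun (congrFun h 0) 0
      simpa [hD] using this
  have hcommD : ∀ (M : Matrix (Fin 3) (Fin 3) F) (g : Cfsg.SU 3 F 4) (p : ℕ), matG g = M → D * M = M * D →
      orderOf g = p → Nat.Coprime 5 p → orderOf (gD * g) = 5 * p := fun M g p hg hc hp hcop => by
    rw [Commute.orderOf_mul_eq_mul_orderOf_of_coprime _ (by rwa [hD5, hp]), hD5, hp]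
    exact matG_injective (by rw [map_mul, map_mul, hgD, hg, hc])
  constructor
  · set P : Matrix (Fin 3) (Fin 3) F := !![0, 1, 0; 1, 0, 0; 0, 0, 1] with hP
    obtain ⟨g, hg⟩ := mk P (by rw [hP, Matrix.det_fin_three]; simp; linear_combination -h2) (fun x y => by
      simp [hP, Cfsg.hermForm, Matrix.mulVec, dotProduct, Fin.sum_univ_three]
      ring)
    have h2g := ho P g 2 hg (by rw [hP, pow_two]; ext i j; fin_cases i <;> fin_cases j <;> simp [Matrix.mul_apply, Fin.sum_univ_three])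
      (fun h => by have := congrFun (congrFun h 0) 0; simp [hP] at this)
    exact ⟨gD * g, hcommD P g 2 hg (by
      rw [hD, hP]; ext i j; fin_cases i <;> fin_cases j <;> simp [Matrix.mul_apply, Fin.sum_univ_three]) h2g (by norm_num)⟩
  · set x : F := K.t with hx
    have ht : x ^ 4 = x + 1 := by
      rw [hx, K.pow_eq, shift_four, map_add, ← K.pow_eq, ← K.pow_eq, pow_one, pow_zero]
    obtain ⟨y, hy⟩ : ∃ y : F, y * y ^ 4 = 1 + x * x ^ 4 :=
      ⟨x ^ 2, by linear_combination (x ^ 2 * (x ^ 4 + x + 1) + 1 - x) * ht + x ^ 3 * h2⟩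
    set M : Matrix (Fin 3) (Fin 3) F := !![x, y, 0; y ^ 4, x ^ 4, 0; 0, 0, 1] with hM
    have hx16 : x ^ 16 = x := by rw [← hF]; exact FiniteField.pow_card x
    have hy16 : y ^ 16 = y := by rw [← hF]; exact FiniteField.pow_card y
    have hy' : y * y ^ 4 = 1 + x * (x + 1) := by rw [hy, ht]
    obtain ⟨g, hg⟩ := mk M (by
      rw [hM, Matrix.det_fin_three]; simp
      linear_combination -hy - h2) (fun u v => by
      simp [hM, Cfsg.hermForm, Matrix.mulVec, dotProduct, Fin.sum_univ_three, add_pow_four, mul_pow, ← pow_mul]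
      linear_combination (u 0 * v 0 ^ 4 + u 1 * v 1 ^ 4) * hy +
        ((u 0 * v 0 ^ 4 + u 1 * v 1 ^ 4) * x ^ 5 + x * y ^ 4 * u 0 * v 1 ^ 4 + y * x ^ 4 * u 1 * v 0 ^ 4) * h2 +
        y ^ 4 * u 0 * v 0 ^ 4 * hy16 + y ^ 4 * u 0 * v 1 ^ 4 * hx16 + x ^ 4 * u 1 * v 0 ^ 4 * hy16 +
        x ^ 4 * u 1 * v 1 ^ 4 * hx16)
    have h3g := ho M g 3 hg (by
      rw [hM, ht, pow_succ, pow_two]
      ext i j
      fin_cases i <;> fin_cases j <;> simp [Matrix.mul_apply, Fin.sum_univ_three]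
      · linear_combination (3 * x + 1) * hy' + (2 * x ^ 3 + 2 * x ^ 2 + 2 * x) * h2
      · linear_combination y * hy' + y * (2 * x ^ 2 + 2 * x + 1) * h2
      · linear_combination y ^ 4 * hy' + y ^ 4 * (2 * x ^ 2 + 2 * x + 1) * h2
      · linear_combination (3 * x + 2) * hy' + (2 * x ^ 3 + 4 * x ^ 2 + 4 * x + 1) * h2)
      (fun h => by
        have h00 := congrFun (congrFun h 0) 0
        simp [hM] at h00
        rw [h00] at ht
        exact one_ne_zero (show (1 : F) = 0 by linear_combination -ht))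
    exact ⟨gD * g, hcommD M g 3 hg (by
      rw [hD, hM]; ext i j; fin_cases i <;> fin_cases j <;> simp [Matrix.mul_apply, Fin.sum_univ_three] <;> ring) h3g
      (by norm_num)⟩

end Cfsg.Agent.KnownA.U34
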