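import Cfsg.Agent.KnownA.U34.Module
import Cfsg.Agent.Forms.UnitaryOrder

/-!
# Groups of unbounded order with the prime graph of `PSU₃(4)`
-/

set_option autoImplicit false
set_option linter.unusedSectionVars false

namespace Cfsg.Agent.KnownA.U34

open Finset

/-- Matrices over `ℤ/5` acting coordinatewise on `N + 1` copies. -/
def vAct {G : Type} [Group G] {r : ℕ} (φ : G →* Matrix (Fin r) (Fin r) (ZMod 5)) (N : ℕ) :
    G →* MulAut (Multiplicative (Fin (N + 1) → Fin r → ZMod 5)) where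
  toFun g :=
    { toFun := fun v => Multiplicative.ofAdd fun k => Matrix.mulVec (φ g) (v.toAdd k)
      invFun := fun v => Multiplicative.ofAdd fun k => Matrix.mulVec (φ g⁻¹) (v.toAdd k)
      left_inv := fun v => by
        apply Multiplicative.toAdd.injective
        funext k
        simp [Matrix.mulVec_mulVec, ← map_mul]
      right_inv := fun v => by
        apply Multiplicative.toAdd.injective
        funext k
        simp [Matrix.mulVec_mulVec, ← map_mul]
      map_mul' := fun u v => by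
        apply Multiplicative.toAdd.injective
        funext k
        simp [Matrix.mulVec_add] }
  map_one' := by
    refine MulEquiv.ext fun v => Multiplicative.toAdd.injective (funext fun k => ?_)
    simp
  map_mul' g h := by
    refine MulEquiv.ext fun v => Multiplicative.toAdd.injective (funext fun k => ?_)
    simp [Matrix.mulVec_mulVec]

/-- Extending by a module of characteristic five. -/
theorem extension_same_graph {G : Type} [Group G] [Finite G] {r : ℕ} (φ : G →* Matrix (Fin r) (Fin r) (ZMod 5))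
    (hr : 0 < r) (hprimes : ∀ p : ℕ, p.Prime → p ∣ Nat.card G → p = 2 ∨ p = 3 ∨ p = 5 ∨ p = 13)
    (h5 : 5 ∣ Nat.card G) (h10 : ∃ g : G, orderOf g = 5 * 2) (h15 : ∃ g : G, orderOf g = 5 * 3)
    (h13 : ∀ g : G, orderOf g = 13 → ∑ i ∈ range 13, φ (g ^ i) = 0) (N : ℕ) :
    ∃ (H : Type) (_ : Group H) (_ : Finite H), N < Nat.card H ∧
      ((∀ p : ℕ, p.Prime → (p ∣ Nat.card G ↔ p ∣ Nat.card H)) ∧
      (∀ p q : ℕ, p.Prime → q.Prime → p ≠ q → ((∃ g : G, orderOf g = p * q) ↔ (∃ g : H, orderOf g = p * q)))) := by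
  let H := Multiplicative (Fin (N + 1) → Fin r → ZMod 5) ⋊[vAct φ N] G
  have hcard : Nat.card H = 5 ^ (r * (N + 1)) * Nat.card G := by
    rw [Nat.card_congr SemidirectProduct.equivProd, Nat.card_prod]
    congr 1
    rw [Nat.card_congr Multiplicative.toAdd, Nat.card_fun, Nat.card_fun]
    simp [pow_mul]
  haveI : Finite H := Finite.of_equiv _ SemidirectProduct.equivProd.symm
  refine ⟨H, inferInstance, inferInstance, ?_, fun p hp => ⟨fun h => ?_, fun h => ?_⟩, fun p q hp hq hne => ⟨?_, ?_⟩⟩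
  · rw [hcard]
    have h1 : N < 5 ^ (r * (N + 1)) := lt_of_lt_of_le (Nat.lt_pow_self (by norm_num : 1 < 5))
      (Nat.pow_le_pow_right (by norm_num) (le_trans (Nat.le_succ N) (Nat.le_mul_of_pos_left _ hr)))
    exact lt_of_lt_of_le h1 (Nat.le_mul_of_pos_right _ Nat.card_pos)
  · rw [hcard]; exact h.mul_left _
  · rw [hcard] at h
    rcases hp.dvd_mul.1 h with h' | h'
    · rwa [(Nat.prime_dvd_prime_iff_eq hp (by norm_num)).1 (hp.dvd_of_dvd_pow h')]
    · exact h'
  · rintro ⟨g, hg⟩
    exact ⟨SemidirectProduct.inr g, by rw [orderOf_injective _ SemidirectProduct.inr_injective, hg]⟩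
  rintro ⟨x, hx⟩
  set g := x.right with hg
  have hgd : orderOf g ∣ p * q := hx ▸ orderOf_map_dvd SemidirectProduct.rightHom x
  have hxd : p * q ∣ orderOf g * 5 := by
    rw [← hx]
    apply orderOf_dvd_of_pow_eq_one
    rw [pow_mul]
    have hr1 : (x ^ orderOf g).right = 1 := by
      rw [← SemidirectProduct.rightHom_eq_right, map_pow]
      exact pow_orderOf_eq_one g
    have hl : x ^ orderOf g = SemidirectProduct.inl (x ^ orderOf g).left := by
      refine SemidirectProduct.ext ?_ ?_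
      · simp
      · simpa using hr1
    rw [hl, ← map_pow]
    have : (x ^ orderOf g).left ^ 5 = 1 := by
      apply Multiplicative.toAdd.injective
      funext k i
      rw [toAdd_pow, toAdd_one, Pi.smul_apply, Pi.smul_apply, nsmul_eq_mul]
      exact mul_eq_zero_of_left (ZMod.natCast_self 5) _
    rw [this, map_one]
  have hgcases : orderOf g = 1 ∨ orderOf g = p ∨ orderOf g = q ∨ orderOf g = p * q := by
    obtain ⟨u, v, hu, hv, he⟩ := exists_dvd_and_dvd_of_dvd_mul hgd
    rcases (Nat.dvd_prime hp).1 hu with rfl | rfl <;> rcases (Nat.dvd_prime hq).1 hv with rfl | rfl <;>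
      simp [he]
  have key : ∀ s : ℕ, s.Prime → s ≠ 5 → orderOf g = s → orderOf x = 5 * s → ∃ g : G, orderOf g = 5 * s := by
    intro s hs hs5 hgs hxs
    rcases hprimes s hs (hgs ▸ orderOf_dvd_natCard g) with rfl | rfl | rfl | rfl
    · exact h10
    · exact h15
    · exact absurd rfl hs5
    · exfalso
      have hpow : ∀ n : ℕ, (x ^ n).left.toAdd = (fun k => Matrix.mulVec (∑ i ∈ range n, φ (g ^ i)) (x.left.toAdd k)) ∧
          (x ^ n).right = g ^ n := by
        intro n
        induction n with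
        | zero => exact ⟨by funext k; simp, by simp⟩
        | succ n ih =>
          refine ⟨?_, by rw [pow_succ, SemidirectProduct.mul_right, ih.2, pow_succ]⟩
          rw [pow_succ, SemidirectProduct.mul_left, toAdd_mul, ih.1, ih.2]
          funext k
          rw [Pi.add_apply, Finset.sum_range_succ, Matrix.add_mulVec]
          rfl
      have h13' : x ^ 13 = 1 := by
        refine SemidirectProduct.ext ?_ ?_
        · apply Multiplicative.toAdd.injective
          rw [(hpow 13).1, h13 g hgs]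
          funext k
          simp
        · rw [(hpow 13).2, ← hgs, pow_orderOf_eq_one]
          rfl
      have := orderOf_dvd_of_pow_eq_one h13'
      rw [hxs] at this
      norm_num at this
  have hq5 : ∀ a b : ℕ, a.Prime → b.Prime → a * b ∣ a * 5 → b = 5 := fun a b ha hb h =>
    (Nat.prime_dvd_prime_iff_eq hb (by norm_num)).1 (Nat.dvd_of_mul_dvd_mul_left ha.pos h)
  rcases hgcases with h | h | h | h
  · rw [h, one_mul] at hxd
    have h1 := (Nat.prime_dvd_prime_iff_eq hp (by norm_num)).1 (dvd_trans (dvd_mul_right p q) hxd)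
    have h2 := (Nat.prime_dvd_prime_iff_eq hq (by norm_num)).1 (dvd_trans (dvd_mul_left q p) hxd)
    exact absurd (h1.trans h2.symm) hne
  · rw [h] at hxd
    obtain rfl := hq5 p q hp hq hxd
    obtain ⟨g', hg'⟩ := key p hp hne h (by rw [hx, mul_comm])
    exact ⟨g', by rw [hg', mul_comm]⟩
  · rw [h, mul_comm p q] at hxd
    obtain rfl := hq5 q p hq hp hxd
    exact key q hq (Ne.symm hne) h hx
  · exact ⟨g, h⟩

theorem card_psu34 {F : Type*} [Field F] [Fintype F] (hF : Fintype.card F = 16) :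
    Nat.card (Cfsg.PSU 3 F 4) = 62400 ∧ Nat.card (Subgroup.center (Cfsg.SU 3 F 4)) = 1 := by
  classical
  have hF' : Fintype.card F = 4 ^ 2 := by rw [hF]; norm_num
  have h := Forms.card_PSU hF' (n := 3) (by norm_num)
  have hc := Forms.card_center_SU hF' (n := 3) (by norm_num)
  refine ⟨?_, by rw [hc]; norm_num⟩
  rw [show Nat.gcd 3 (4 + 1) = 1 from rfl] at h
  simp [Finset.prod_range_succ, Nat.even_iff] at h
  show Nat.card (Cfsg.SU 3 F 4 ⧸ Subgroup.center (Cfsg.SU 3 F 4)) = 62400
  rw [Nat.card_eq_fintype_card]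
  omega

/-- The statement. -/
theorem unbounded_same_graph {F : Type*} [Field F] [Fintype F] (hF : Fintype.card F = 16) (N : ℕ) :
    ∃ (H : Type) (_ : Group H) (_ : Finite H), N < Nat.card H ∧
      ((∀ p : ℕ, p.Prime → (p ∣ Nat.card (Cfsg.PSU 3 F 4) ↔ p ∣ Nat.card H)) ∧
      (∀ p q : ℕ, p.Prime → q.Prime → p ≠ q → ((∃ g : (Cfsg.PSU 3 F 4), orderOf g = p * q) ↔ (∃ g : H, orderOf g = p * q)))) := by
  classical
  obtain ⟨hcard, hcent⟩ := card_psu34 hF
  have hbot : Subgroup.center (Cfsg.SU 3 F 4) = ⊥ := Subgroup.card_eq_one.1 hcent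
  let e : Cfsg.SU 3 F 4 ≃* Cfsg.PSU 3 F 4 :=
    QuotientGroup.quotientBot.symm.trans (QuotientGroup.quotientMulEquivOfEq hbot.symm)
  obtain ⟨G', _, _, ⟨e'⟩⟩ := Finite.exists_type_univ_nonempty_mulEquiv.{_, 0} (Cfsg.SU 3 F 4)
  obtain ⟨r, φ, hr, hφ⟩ := exists_mod_five (F := F) hF
  obtain ⟨⟨g10, hg10⟩, ⟨g15, hg15⟩⟩ := exists_ten_fifteen (F := F) hF
  have hG : Nat.card G' = 62400 := by rw [← hcard, ← Nat.card_congr e.toEquiv, ← Nat.card_congr e'.toEquiv]
  obtain ⟨H, iG, iF, hN, hp, hg⟩ := extension_same_graph (φ.comp e'.symm.toMonoidHom) hr (fun p hpp hd => by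
      rw [hG, show (62400 : ℕ) = 2 ^ 6 * 3 * 5 ^ 2 * 13 by norm_num] at hd
      simp only [Nat.Prime.dvd_mul hpp] at hd
      rcases hd with ((h | h) | h) | h
      · exact Or.inl ((Nat.prime_dvd_prime_iff_eq hpp Nat.prime_two).1 (hpp.dvd_of_dvd_pow h))
      · exact Or.inr (Or.inl ((Nat.prime_dvd_prime_iff_eq hpp Nat.prime_three).1 h))
      · exact Or.inr (Or.inr (Or.inl ((Nat.prime_dvd_prime_iff_eq hpp (by norm_num)).1 (hpp.dvd_of_dvd_pow h))))
      · exact Or.inr (Or.inr (Or.inr ((Nat.prime_dvd_prime_iff_eq hpp (by norm_num)).1 h))))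
    (by rw [hG]; norm_num) ⟨e' g10, by rw [MulEquiv.orderOf_eq, hg10]⟩ ⟨e' g15, by rw [MulEquiv.orderOf_eq, hg15]⟩
    (fun g hg13 => by
      have := hφ (e'.symm g) (by rw [MulEquiv.orderOf_eq, hg13])
      simpa [map_pow] using this) N
  have hc2 : Nat.card (Cfsg.PSU 3 F 4) = Nat.card G' := hcard.trans hG.symm
  refine ⟨H, iG, iF, hN, fun p hpp => by rw [hc2]; exact hp p hpp, fun p q hpp hqq hne => ?_⟩
  refine Iff.trans ⟨?_, ?_⟩ (hg p q hpp hqq hne)
  · rintro ⟨g, hgo⟩
    exact ⟨e' (e.symm g), by rw [MulEquiv.orderOf_eq, MulEquiv.orderOf_eq, hgo]⟩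
  · rintro ⟨g, hgo⟩
    exact ⟨e (e'.symm g), by rw [MulEquiv.orderOf_eq, MulEquiv.orderOf_eq, hgo]⟩

end Cfsg.Agent.KnownA.U34
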