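import Cfsg.Agent.KnownA.U34.Gauss
import Cfsg.Agent.KnownA.U34.Idem

/-!
# The representation of degree twelve of `SU₃(4)`; elements of order thirteen have no fixed vectors
-/

set_option autoImplicit false
set_option linter.unusedSectionVars false

namespace Cfsg.Agent.KnownA.U34

open Matrix Finset

variable {F : Type*} [Field F] [Fintype F] [DecidableEq F]

/-- The matrix of an element. -/
abbrev matG : Cfsg.SU 3 F 4 →* Matrix (Fin 3) (Fin 3) F := (Cfsg.slToMat 3 F).comp (Cfsg.SU 3 F 4).subtype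

theorem iso_matG (g : Cfsg.SU 3 F 4) : Iso (matG g) := g.2

theorem injective_matG (g : Cfsg.SU 3 F 4) : Function.Injective (matG g *ᵥ ·) := fun x y h => by
  have := congrArg (matG g⁻¹ *ᵥ ·) h
  simpa [mulVec_mulVec, ← map_mul] using this

theorem matG_injective : Function.Injective (matG : Cfsg.SU 3 F 4 → Matrix (Fin 3) (Fin 3) F) :=
  fun _ _ h => Subtype.ext (Subtype.ext h)

theorem fpf_thirteen (K : Coord F) {g : Cfsg.SU 3 F 4} (hg : orderOf g = 13) : Fpf (matG g) := by
  have hinj := injective_matG g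
  set M := matG g
  let σ : Equiv.Perm (Vec F) := Equiv.ofBijective _ (Finite.injective_iff_bijective.1 hinj)
  have hσapp : ∀ x, σ x = M *ᵥ x := fun x => rfl
  haveI : Fact (Nat.Prime 13) := ⟨by norm_num⟩
  have hσ : σ ^ 13 ^ 1 = 1 := by
    have hn : ∀ (n : ℕ) (x : Vec F), (σ ^ n) x = (M ^ n) *ᵥ x := by
      intro n
      induction n with
      | zero => intro x; simp
      | succ n ih => intro x; rw [pow_succ, Equiv.Perm.mul_apply, ih, hσapp, mulVec_mulVec, pow_succ]
    refine Equiv.ext fun x => ?_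
    rw [hn, pow_one, ← map_pow, ← hg, pow_orderOf_eq_one, map_one, one_mulVec]
    rfl
  let W : Submodule F (Vec F) := LinearMap.ker (Matrix.mulVecLin M - LinearMap.id)
  haveI : Fintype W := Fintype.ofFinite _
  have hW : ∀ x, x ∈ W ↔ M *ᵥ x = x := fun x => by simp [W, sub_eq_zero]
  have h1 := Equiv.Perm.card_compl_support_modEq (n := 1) hσ
  have hfix : σ.supportᶜ.card = Nat.card W := by
    rw [Nat.card_eq_fintype_card, ← Fintype.card_coe]
    exact Fintype.card_congr (Equiv.subtypeEquivRight fun x => by simp [hW, hσapp])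
  rw [hfix, K.card_vec, Nat.card_eq_fintype_card, Module.card_eq_pow_finrank (K := F)] at h1
  have hle : Module.finrank F W ≤ 3 := le_trans (Submodule.finrank_le W) (by simp)
  have h16 : Fintype.card F = 16 := by rw [Fintype.card_congr K.bits.toEquiv]; simp
  intro x hx
  have hxW : x ∈ W := (hW x).2 hx
  have hd : Module.finrank F W = 0 := by
    by_contra h0
    rcases (show Module.finrank F W = 1 ∨ Module.finrank F W = 2 ∨ Module.finrank F W = 3 by omega) with h | h | h
    · rw [h, h16] at h1; norm_num [Nat.ModEq] at h1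
    · rw [h, h16] at h1; norm_num [Nat.ModEq] at h1
    · have htop : W = ⊤ := Submodule.eq_top_of_finrank_eq (by rw [h]; simp)
      have hg1 : g = 1 := matG_injective (Matrix.ext_iff_mulVec.2 fun v => by
        rw [map_one, one_mulVec]; exact (hW v).1 (htop ▸ Submodule.mem_top))
      rw [hg1, orderOf_one] at hg
      norm_num at hg
  rw [Submodule.finrank_eq_zero] at hd
  rw [hd, Submodule.mem_bot] at hxW
  exact hxW

namespace Coord

variable (K : Coord F) {a : F}

/-- The scalar matrices. -/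
def sc (a : F) (k : ZMod 5) : Matrix (Fin 3) (Fin 3) F := a ^ k.val • 1

theorem sc_add (ha : a ^ 5 = 1) (k l : ZMod 5) : sc a (k + l) = sc a k * sc a l := by
  rw [sc, sc, sc, smul_mul_smul_comm, one_mul, ← pow_add, ZMod.val_add, ← pow_eq_pow_mod _ ha]

theorem sc_iso (ha : a ^ 5 = 1) (k : ZMod 5) : Iso (sc a k) :=
  iso_scalar (by rw [← pow_mul, mul_comm, pow_mul, ha, one_pow])

theorem sc_zero : sc a 0 = (1 : Matrix (Fin 3) (Fin 3) F) := by simp [sc]

theorem sc_ne (ha : a ^ 5 = 1) (ha1 : a ≠ 1) {k : ZMod 5} (hk : k ≠ 0) : a ^ k.val ≠ 1 := by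
  intro h
  have ho : orderOf a = 5 := by
    haveI : Fact (Nat.Prime 5) := ⟨by norm_num⟩
    exact orderOf_eq_prime ha ha1
  have := orderOf_dvd_of_pow_eq_one h
  rw [ho] at this
  have hlt := ZMod.val_lt k
  exact hk ((ZMod.val_eq_zero k).1 (Nat.eq_zero_of_dvd_of_lt this hlt))

theorem sc_eq_one (ha : a ^ 5 = 1) (ha1 : a ≠ 1) (k : ZMod 5) :
    sc a k = (1 : Matrix (Fin 3) (Fin 3) F) ↔ k = 0 := by
  refine ⟨fun h => ?_, fun h => by rw [h, sc_zero]⟩
  by_contra hk
  refine sc_ne ha ha1 hk ?_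
  have := congrFun (congrFun h 0) 0
  simpa [sc] using this

theorem sc_good (ha : a ^ 5 = 1) (ha1 : a ≠ 1) (k : ZMod 5) : Good (sc a k) := by
  by_cases hk : k = 0
  · exact Or.inl (by rw [hk, sc_zero])
  · exact Or.inr (fpf_scalar (sc_ne ha ha1 hk))

theorem sc_comm (M : Matrix (Fin 3) (Fin 3) F) (k : ZMod 5) : Commute (sc a k) M :=
  (Commute.one_left M).smul_left _

theorem intw_comm {M N : Matrix (Fin 3) (Fin 3) F} (hM : Iso M) (hinj : Function.Injective (M *ᵥ ·))
    (hMN : Commute N M) {T : M64} (hT : K.Intw M T) : Commute T (K.R N) := by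
  show T * K.R N = K.R N * T
  have hb : Function.Bijective (M *ᵥ ·) := Finite.injective_iff_bijective.1 hinj
  simp only [R, Matrix.mul_smul, Matrix.smul_mul, Finset.mul_sum, Finset.sum_mul]
  congr 1
  refine Fintype.sum_equiv (Equiv.ofBijective _ hb) _ _ fun x => ?_
  show _ = sg (K.q N (M *ᵥ x)) • (K.E (M *ᵥ x + N *ᵥ (M *ᵥ x)) * T)
  rw [hT, mulVec_mulVec, hMN.eq, ← mulVec_mulVec, ← mulVec_add]
  congr 2
  rw [q, q, mulVec_mulVec, hMN.eq, ← mulVec_mulVec, ← mulVec_add, K.β_iso hM]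

/-- The projections. -/
noncomputable def ep (a : F) (j : ZMod 5) : M64 :=
  (1 / 5 : ℂ) • ∑ k, ZMod.stdAddChar (j * k) • K.Rx (sc a k)

theorem std_sum {n : ℕ} [NeZero n] (j : ZMod n) (h : j ≠ 0) : ∑ k, ZMod.stdAddChar (j * k) = 0 := by
  have h1 : AddChar.mulShift ZMod.stdAddChar j ≠ 1 := ZMod.isPrimitive_stdAddChar n h
  have := AddChar.sum_eq_zero_of_ne_one h1
  simpa [AddChar.mulShift_apply] using this

variable (ha : a ^ 5 = 1) (ha1 : a ≠ 1)
include ha ha1

theorem R5_mul (k l : ZMod 5) : K.Rx (sc a k) * K.Rx (sc a l) = K.Rx (sc a (k + l)) := by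
  have hg := sc_good ha ha1 (k + l)
  rw [sc_add ha] at hg
  rw [sc_add ha, K.Rx_mul (sc_comm _ k) (sc_iso ha k) (sc_iso ha l) (sc_good ha ha1 k) (sc_good ha ha1 l) hg]

theorem ep_idem (j : ZMod 5) : K.ep a j * K.ep a j = K.ep a j := by
  rw [ep, Matrix.smul_mul, Matrix.mul_smul, smul_smul, Finset.sum_mul]
  have : ∀ k : ZMod 5, ZMod.stdAddChar (j * k) • K.Rx (sc a k) *
      ∑ l, ZMod.stdAddChar (j * l) • K.Rx (sc a l) = ∑ m, ZMod.stdAddChar (j * m) • K.Rx (sc a m) := by
    intro k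
    rw [Finset.mul_sum, ← Equiv.sum_comp (Equiv.addLeft k) (fun m => ZMod.stdAddChar (j * m) • K.Rx (sc a m))]
    refine sum_congr rfl fun l _ => ?_
    rw [Equiv.coe_addLeft, Matrix.smul_mul, Matrix.mul_smul, smul_smul, K.R5_mul ha ha1, ← AddChar.map_add_eq_mul,
      mul_add]
  rw [sum_congr rfl fun k _ => this k, Finset.sum_const, Finset.card_univ, ZMod.card, ← Nat.cast_smul_eq_nsmul ℂ,
    smul_smul]
  norm_num

theorem trace_ep (j : ZMod 5) : (K.ep a j).trace = if j = 0 then (12 : ℕ) else (13 : ℕ) := by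
  simp only [ep, Matrix.trace_smul, Matrix.trace_sum, smul_eq_mul, K.trace_Rx (sc_good ha ha1 _),
    sc_eq_one ha ha1]
  have : ∀ k : ZMod 5, ZMod.stdAddChar (j * k) * (if k = 0 then (64 : ℂ) else -1) =
      (if k = 0 then 65 * ZMod.stdAddChar (j * k) else 0) - ZMod.stdAddChar (j * k) := by
    intro k; split_ifs <;> ring
  simp only [this, sum_sub_distrib, Finset.sum_ite_eq', Finset.mem_univ, if_true, mul_zero,
    AddChar.map_zero_eq_one, mul_one]
  by_cases hj : j = 0
  · subst hj; simp; norm_num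
  · rw [std_sum j hj, if_neg hj]; norm_num

theorem ep_comm {g : Cfsg.SU 3 F 4} {T : M64} (hT : K.Intw (matG g) T) (j : ZMod 5) : Commute (K.ep a j) T := by
  refine ((Commute.sum_right _ _ _ fun k _ => Commute.smul_right ?_ _).smul_right _).symm
  by_cases hk : sc a k = 1
  · simp [Rx, hk]
  · simp only [Rx, hk, if_false]
    exact K.intw_comm (iso_matG g) (injective_matG g) (sc_comm _ k) hT

omit ha ha1

/-- A chosen intertwiner. -/
noncomputable def Tg (g : Cfsg.SU 3 F 4) : M64 :=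
  (K.exists_intw (iso_matG g) (injective_matG g)).choose

theorem Tg_spec (g : Cfsg.SU 3 F 4) : IsUnit (K.Tg g) ∧ K.Intw (matG g) (K.Tg g) :=
  (K.exists_intw (iso_matG g) (injective_matG g)).choose_spec

/-- The representation of degree twelve, inside the matrices of size 64. -/
noncomputable def ρ (a : F) (g : Cfsg.SU 3 F 4) : M64 :=
  (detRes (K.ep a 0) (K.Tg g) / detRes (K.ep a 1) (K.Tg g)) • (K.ep a 0 * K.Tg g)

include ha ha1

theorem detRes_ne_zero {g : Cfsg.SU 3 F 4} {T : M64} (hTu : IsUnit T) (hT : K.Intw (matG g) T) (j : ZMod 5) :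
    detRes (K.ep a j) T ≠ 0 := by
  obtain ⟨u, rfl⟩ := hTu
  have h := detRes_mul (S := (u : M64)) (T := (↑u⁻¹ : M64)) (K.ep_idem ha ha1 j) (K.ep_comm ha ha1 hT j)
  rw [Units.mul_inv, detRes_one] at h
  exact left_ne_zero_of_mul (h.symm ▸ one_ne_zero)

theorem ρ_eq {g : Cfsg.SU 3 F 4} {T : M64} (hTu : IsUnit T) (hT : K.Intw (matG g) T) :
    K.ρ a g = (detRes (K.ep a 0) T / detRes (K.ep a 1) T) • (K.ep a 0 * T) := by
  obtain ⟨c, hc⟩ := Intw.unique K hT hTu (K.Tg_spec g).2
  have hc0 : c ≠ 0 := by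
    rintro rfl
    rw [zero_smul] at hc
    exact (K.Tg_spec g).1.ne_zero hc
  rw [ρ, hc, detRes_smul (K.ep_idem ha ha1 0) (r := 12) (by rw [K.trace_ep ha ha1]; simp),
    detRes_smul (K.ep_idem ha ha1 1) (r := 13) (by rw [K.trace_ep ha ha1, if_neg (by decide)]), Matrix.mul_smul, smul_smul]
  congr 1
  have := K.detRes_ne_zero ha ha1 hTu hT 1
  field_simp

theorem ρ_mul (g h : Cfsg.SU 3 F 4) : K.ρ a (g * h) = K.ρ a g * K.ρ a h := by
  have hg := (K.Tg_spec g).2
  have hh := (K.Tg_spec h).2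
  have hint : K.Intw (matG (g * h)) (K.Tg g * K.Tg h) := by rw [map_mul]; exact hg.mul K hh
  rw [K.ρ_eq ha ha1 ((K.Tg_spec g).1.mul (K.Tg_spec h).1) hint, detRes_mul (K.ep_idem ha ha1 0) (K.ep_comm ha ha1 hg 0),
    detRes_mul (K.ep_idem ha ha1 1) (K.ep_comm ha ha1 hg 1), ρ, ρ, Matrix.smul_mul, Matrix.mul_smul, smul_smul]
  congr 1
  · ring
  · rw [mul_assoc (K.ep a 0) (K.Tg g) (K.ep a 0 * K.Tg h), ← mul_assoc (K.Tg g) (K.ep a 0) (K.Tg h),
      ← (K.ep_comm ha ha1 hg 0).eq, mul_assoc (K.ep a 0) (K.Tg g) (K.Tg h), ← mul_assoc (K.ep a 0) (K.ep a 0),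
      K.ep_idem ha ha1]

theorem ρ_one : K.ρ a 1 = K.ep a 0 := by
  rw [K.ρ_eq ha ha1 isUnit_one (by rw [map_one]; exact K.intw_one), detRes_one, detRes_one, div_one, one_smul,
    mul_one]

theorem ep_ne_zero : K.ep a 0 ≠ 0 := fun h => by
  have := K.trace_ep ha ha1 0
  rw [h, Matrix.trace_zero, if_pos rfl] at this
  norm_num at this

theorem ρ_sum_thirteen {g : Cfsg.SU 3 F 4} (hg : orderOf g = 13) : ∑ i ∈ range 13, K.ρ a (g ^ i) = 0 := by
  have hg1' : g ^ 13 = 1 := by rw [← hg]; exact pow_orderOf_eq_one g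
  have hpow : ∀ i : ZMod 13, i ≠ 0 → Fpf (matG (g ^ i.val)) := fun i hi => by
    haveI : Fact (Nat.Prime 13) := ⟨by norm_num⟩
    refine fpf_thirteen K (orderOf_eq_prime ?_ ?_)
    · rw [← pow_mul, mul_comm, pow_mul, hg1', one_pow]
    · intro h
      have := orderOf_dvd_of_pow_eq_one h
      rw [hg] at this
      exact hi ((ZMod.val_eq_zero i).1 (Nat.eq_zero_of_dvd_of_lt this (ZMod.val_lt i)))
  have hfpf : ∀ (k : ZMod 5) (i : ZMod 13), (k ≠ 0 ∨ i ≠ 0) → Fpf (sc a k * matG (g ^ i.val)) := by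
    intro k i hki x hx
    by_cases hi : i = 0
    · rw [hi, ZMod.val_zero, pow_zero, map_one, mul_one] at hx
      exact fpf_scalar (sc_ne ha ha1 (hki.resolve_right (not_not.2 hi))) x hx
    · have h5 : (sc a k * matG (g ^ i.val)) ^ 5 = matG (g ^ ((i * 5).val)) := by
        rw [(sc_comm _ k).mul_pow, sc, smul_pow, one_pow, ← pow_mul, mul_comm k.val, pow_mul, ha, one_pow,
          one_smul, one_mul, ← map_pow, ← pow_mul, pow_eq_pow_mod _ hg1']
        congr 2
      have h5x : ∀ n : ℕ, (sc a k * matG (g ^ i.val)) ^ n *ᵥ x = x := by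
        intro n
        induction n with
        | zero => simp
        | succ n ih => rw [pow_succ, ← mulVec_mulVec, hx, ih]
      have hi5 : i * 5 ≠ 0 := (show ∀ i : ZMod 13, i ≠ 0 → i * 5 ≠ 0 by decide) i hi
      refine hpow _ hi5 x ?_
      rw [← h5, h5x]
  have hgood : ∀ (k : ZMod 5) (i : ZMod 13), Good (sc a k * matG (g ^ i.val)) := by
    intro k i
    by_cases h : k = 0 ∧ i = 0
    · left; simp [h.1, h.2, sc_zero]
    · exact Or.inr (hfpf k i (not_and_or.1 h))
  have hval : ∀ i j : ZMod 13, g ^ (i + j).val = g ^ i.val * g ^ j.val := fun i j => by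
    rw [ZMod.val_add, ← pow_add, ← pow_eq_pow_mod _ hg1']
  set R13 : ZMod 13 → M64 := fun i => K.Rx (matG (g ^ i.val)) with hR13
  have hg13 : ∀ i : ZMod 13, Good (matG (g ^ i.val)) := fun i => by
    simpa [sc_zero] using hgood 0 i
  have hint : ∀ i, K.Intw (matG (g ^ i.val)) (R13 i) := fun i => K.intw_Rx (iso_matG _)
  have hR13u : ∀ i, IsUnit (R13 i) := fun i => by
    refine (hint i).isUnit K fun h => ?_
    have := K.trace_Rx (hg13 i)
    rw [show K.Rx (matG (g ^ i.val)) = 0 from h, Matrix.trace_zero] at this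
    split_ifs at this <;> norm_num at this
  set X : ZMod 5 → ZMod 13 → M64 := fun j i => K.ep a j * R13 i
  have hX : ∀ j i i', X j i * X j i' = X j (i + i') := by
    intro j i i'
    have hm : R13 i * R13 i' = R13 (i + i') := by
      have h := hg13 (i + i')
      rw [hval, map_mul] at h
      simp only [R13, hval, map_mul]
      refine (K.Rx_mul ?_ (iso_matG _) (iso_matG _) (hg13 i) (hg13 i') h).symm
      exact ((Commute.refl g).pow_pow i.val i'.val).map matG
    simp only [X]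
    rw [mul_assoc, ← mul_assoc (R13 i), ← (K.ep_comm ha ha1 (hint i) j).eq, ← mul_assoc, ← mul_assoc,
      K.ep_idem ha ha1, mul_assoc, hm]
  have hX0 : ∀ j, X j 0 = K.ep a j := fun j => by simp [X, R13, Rx]
  have htr : ∀ j i, i ≠ 0 → (X j i).trace = if j = 0 then -1 else 0 := by
    intro j i hi
    simp only [X, ep, Matrix.smul_mul, Finset.sum_mul, Matrix.trace_smul, Matrix.trace_sum, smul_eq_mul]
    have : ∀ k : ZMod 5, (K.Rx (sc a k) * R13 i).trace = -1 := by
      intro k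
      simp only [R13]
      rw [← K.Rx_mul (sc_comm _ k) (sc_iso ha k) (iso_matG _) (sc_good ha ha1 k) (hg13 i) (hgood k i),
        K.trace_Rx (hgood k i), if_neg]
      intro h1
      have he : (Pi.single 0 1 : Vec F) = 0 := hfpf k i (Or.inr hi) _ (by rw [h1, one_mulVec])
      simpa using congrFun he 0
    simp only [this, ← Finset.sum_mul]
    by_cases hj : j = 0
    · subst hj; simp
    · rw [std_sum j hj, if_neg hj]; simp
  have h0 := det_cyclic (p := 13) (by decide) (K.ep a 0) (X 0) ZMod.stdAddChar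
    (fun i hi => ZMod.isPrimitive_stdAddChar 13 hi) (hX0 0) (hX 0) (-1) 1 0
    (fun i hi => by rw [htr 0 i hi, if_pos rfl]) (by rw [K.trace_ep ha ha1]; norm_num)
    (by rw [K.trace_ep ha ha1]; norm_num) rfl
  have h1 := det_cyclic (p := 13) (by decide) (K.ep a 1) (X 1) ZMod.stdAddChar
    (fun i hi => ZMod.isPrimitive_stdAddChar 13 hi) (hX0 1) (hX 1) 0 1 1
    (fun i hi => by rw [htr 1 i hi, if_neg (by decide)]) (by rw [K.trace_ep ha ha1, if_neg (by decide)]; simp)
    (by rw [K.trace_ep ha ha1, if_neg (by decide)]; simp) rfl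
  have hρg : K.ρ a g = X 0 1 := by
    have hg1 : g = g ^ (1 : ZMod 13).val := (pow_one g).symm
    have hT : K.Intw (matG g) (R13 1) := by
      conv_lhs => rw [hg1]
      exact hint 1
    rw [K.ρ_eq ha ha1 (hR13u 1) hT]
    have e0 : detRes (K.ep a 0) (R13 1) = 1 := h0.1
    have e1 : detRes (K.ep a 1) (R13 1) = 1 := h1.1
    rw [e0, e1, div_one, one_smul]
  have hρpow : ∀ i : ℕ, K.ρ a (g ^ i) = X 0 (i : ZMod 13) := by
    intro i
    induction i with
    | zero => rw [pow_zero, Nat.cast_zero, hX0, K.ρ_one ha ha1]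
    | succ i ih => rw [pow_succ, K.ρ_mul ha ha1, ih, hρg, hX, Nat.cast_succ]
  simp only [hρpow]
  rw [← Fin.sum_univ_eq_sum_range (fun i => X 0 (i : ZMod 13))]
  rw [show (∑ i : Fin 13, X 0 ((i : ℕ) : ZMod 13)) = ∑ i : ZMod 13, X 0 i from
    Fintype.sum_congr _ _ fun i => congrArg (X 0) (ZMod.natCast_zmod_val (n := 13) i)]
  exact h0.2 rfl

end Coord

end Cfsg.Agent.KnownA.U34
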